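import Cfsg.Agent.Lib.Blocks.DefectFour
import Cfsg.Agent.Lib.Blocks.CoveringDefect
import Cfsg.Agent.Lib.Blocks.DeficitOne.Reduce
import Cfsg.Agent.Lib.Blocks.HeightZero
import Cfsg.Agent.Lib.Char.AbelianInertia
import Cfsg.Agent.S0887

/-!
# Blocks with a normal abelian defect group: heights, and the blocks covered in the centralizer
-/

set_option autoImplicit false

namespace CfsgLib.Blocks.ThreeChars

open Cfsg CfsgLib.Blocks CfsgLib.CharAction MonoidAlgebra

variable {G : Type*} [Group G] [Fintype G] {p : ℕ} [Fact p.Prime] {M : Ideal AlgInt} [M.IsPrime]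
  (hM : IsPModular p M) {B : Set (IrrCharacter G)} (hB : IsPBlock M B) {D : Subgroup G} [D.Normal]
  (hD : IsDefectGroup p M B D)
include hM

include hB hD in
/-- All characters have height zero. -/
theorem blockHeight_eq_zero (hab : ∀ a ∈ D, ∀ b ∈ D, a * b = b * a) {χ : IrrCharacter G}
    (hχ : χ ∈ B) : blockHeight p B (χ : G → ℂ) = 0 := by
  classical
  have := Fintype.ofFinite D
  obtain ⟨θ, hθ⟩ := exists_constituent D χ
  obtain ⟨-, h2⟩ := Cfsg.Agent.S0887.result D χ χ.2 θ θ.2 hθ
    (charDegree (χ : G → ℂ)) (charDegree (θ : D → ℂ)) (apply_one_eq_charDegree χ)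
    (apply_one_eq_charDegree θ)
  have hθ1 : charDegree (θ : D → ℂ) = 1 := charDegree_eq (χ := θ) (by
    rw [CfsgLib.Clifford.apply_one_eq_one_of_commute (fun a b : D => Subtype.ext (hab a a.2 b b.2)) θ,
      Nat.cast_one])
  rw [hθ1, Nat.div_one] at h2
  obtain ⟨g, hg, hle, hs⟩ := isDefectGroup_iff.1 hD
  have h3 := (Nat.factorization_le_iff_dvd (charDegree_pos χ).ne'
    Subgroup.index_ne_zero_of_finite).2 h2 p
  have h4 := factorization_card_eq_index_add (p := p) hM (G := G) D
  have h5 := factorization_card_eq_index_add (p := p) hM (G := G) (Subgroup.centralizer ({g} : Set G))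
  have h6 : (Nat.card D).factorization p =
      (Nat.card (Subgroup.centralizer ({g} : Set G))).factorization p := by
    rw [(CfsgLib.Fusion.isSylowIn_iff_card hle).1 hs, Nat.factorization_pow_self (Fact.out : p.Prime)]
  rw [blockHeight, sInf_degree_eq hM hB hg]
  omega

omit [D.Normal] in
include hB in
/-- A `2`-block with all heights zero and defect at least two has a multiple of four characters. -/
theorem four_dvd_card (hp : p = 2) (hd : 2 ≤ blockDefect p B)
    (hh : ∀ χ ∈ B, blockHeight p B (χ : G → ℂ) = 0) : 4 ∣ Nat.card B := by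
  classical
  subst hp
  have := Fintype.ofFinite (IrrCharacter G)
  obtain ⟨χ, hχ⟩ := IsPBlock.nonempty hB
  obtain ⟨e, he, hsum⟩ := exists_coeff hM hB hχ (p := 2)
  rw [hh χ hχ, Nat.sub_zero] at hsum
  have hodd : ∀ ξ ∈ B, Odd (e ξ) := by
    intro ξ hξ
    rw [← Int.not_even_iff_odd, even_iff_two_dvd]
    intro h2
    refine (not_pow_succ_dvd_regNum_iff hM hB hχ hξ (p := 2)).2 (hh χ hχ) ?_
    rw [he, show degVal 2 (ξ : G → ℂ) = degVal 2 (χ : G → ℂ) by
      rw [degVal_eq_add (p := 2) hξ, degVal_eq_add (p := 2) hχ, hh ξ hξ, hh χ hχ], pow_succ]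
    exact mul_dvd_mul_left _ (by exact_mod_cast h2)
  have h4 : (4 : ℤ) ∣ ∑ ξ ∈ Finset.univ.filter (· ∈ B), e ξ ^ 2 := by
    rw [hsum]
    exact dvd_mul_of_dvd_left ((by norm_num : (4 : ℤ) ∣ 2 ^ 2).trans (pow_dvd_pow (2 : ℤ) hd)) _
  have h5 : (4 : ℤ) ∣ ∑ ξ ∈ Finset.univ.filter (· ∈ B), (e ξ ^ 2 - 1) := by
    refine Finset.dvd_sum fun ξ hξ => ?_
    obtain ⟨t, ht⟩ := hodd ξ (Finset.mem_filter.1 hξ).2
    exact ⟨t * t + t, by rw [ht]; ring⟩
  rw [Finset.sum_sub_distrib, Finset.sum_const, nsmul_eq_mul, mul_one] at h5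
  have h6 := dvd_sub h4 h5
  rw [sub_sub_cancel] at h6
  rw [Nat.card_eq_fintype_card, Fintype.card_subtype]
  exact_mod_cast h6

/-- A character of `G` lies in the block induced from the block of any constituent in `C(D)`. -/
theorem isInducedBlock_of_constituent (hDp : IsPGroup p D)
    [Fintype (Subgroup.centralizer (D : Set G))] {χ : IrrCharacter G}
    {θ : IrrCharacter (Subgroup.centralizer (D : Set G))}
    (h : classInner (fun n : Subgroup.centralizer (D : Set G) => (χ : G → ℂ) n)
      (θ : Subgroup.centralizer (D : Set G) → ℂ) ≠ 0) :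
    IsInducedBlock M (Subgroup.centralizer (D : Set G))
      (blockOf M (θ : Subgroup.centralizer (D : Set G) → ℂ)) (blockOf M (χ : G → ℂ)) := by
  classical
  have := charP_residueField hM
  let C := Subgroup.centralizer (D : Set G)
  refine isInducedBlock_of_rep (isPBlock_blockOf θ) (isPBlock_blockOf χ) (mem_blockOf_self θ)
    (mem_blockOf_self χ) fun a ha => ?_
  have hc := isCentralElt_insideElt C ha
  have hd : IsCentralElt (a - insideElt C a) := ha.sub hc
  obtain ⟨n, hn⟩ := isNilpotent_of_vanish_centralizer (F := Res M) hDp hd fun c hcC => by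
    simp [insideElt, show c ∈ C from hcC]
  have h0 := congrArg (omegaBar χ) hn
  rw [omegaBar_pow χ hd, omegaBar_zero] at h0
  have h1 := (pow_eq_zero_iff (fun e => by simp [e] at h0)).1 h0
  rw [omegaBar_sub, sub_eq_zero] at h1
  rw [h1, omegaBar_eq_omegaBar_resElt C h hc (fun g hg => coeff_insideElt_of_notMem C a hg),
    resElt_insideElt]

include hB hD in
/-- The block covered in `C(D)` has defect group `D`. -/
theorem isDefectGroup_covered (hab : ∀ a ∈ D, ∀ b ∈ D, a * b = b * a)
    [Fintype (Subgroup.centralizer (D : Set G))] {χ : IrrCharacter G} (hχ : χ ∈ B)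
    {θ : IrrCharacter (Subgroup.centralizer (D : Set G))}
    (h : classInner (fun n : Subgroup.centralizer (D : Set G) => (χ : G → ℂ) n)
      (θ : Subgroup.centralizer (D : Set G) → ℂ) ≠ 0) :
    IsDefectGroup p M (blockOf M (θ : Subgroup.centralizer (D : Set G) → ℂ))
      (D.subgroupOf (Subgroup.centralizer (D : Set G))) := by
  let C := Subgroup.centralizer (D : Set G)
  have hDC : D ≤ C := fun x hx => Subgroup.mem_centralizer_iff.2 fun y hy => hab y hy x hx
  have hind := isInducedBlock_of_constituent hM (IsDefectGroup.isPGroup hD) h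
  obtain ⟨E, hE⟩ := exists_isDefectGroup (p := p) (isPBlock_blockOf (M := M) θ)
  obtain ⟨Q, hQ, hEQ⟩ := IsInducedBlock.defectGroup_le hM hind hE
  rw [← IsPBlock.eq_blockOf hB hχ] at hQ
  obtain ⟨x, hx⟩ := IsDefectGroup.exists_conj hM hB hD hQ
  have hQD : Q = D := by
    rw [← hx]
    refine Subgroup.eq_of_le_of_card_ge ?_ (card_map_conj x D).ge
    rintro _ ⟨v, hv, rfl⟩
    exact Subgroup.Normal.conj_mem ‹D.Normal› v hv x
  rw [hQD] at hEQ
  have hle : E ≤ D.subgroupOf C := fun e he => hEQ (Subgroup.mem_map_of_mem _ he)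
  have hge := IsDefectGroup.normal_le hM (isPBlock_blockOf θ) hE
    (P := D.subgroupOf C) ((IsDefectGroup.isPGroup hD).of_equiv (Subgroup.subgroupOfEquivOfLe hDC).symm)
  exact le_antisymm hle hge ▸ hE

end CfsgLib.Blocks.ThreeChars
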