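import Cfsg.Agent.Lib.Blocks.ThreeChars.LinearMain

/-!
# Groups of automorphisms of an elementary abelian group

The statement of `card_le_three` for a group of automorphisms.
-/

set_option autoImplicit false

namespace CfsgLib.Blocks.ThreeChars

open Subgroup

variable {p : ℕ} {A E : Type*} [CommGroup A] [Finite A] [Nontrivial A] [Group E] [Finite E]

omit [Finite A] [Nontrivial A] [Group E] [Finite E] in
theorem exists_linearRep [Module (ZMod p) (Additive A)] {E : Type*} [Group E] (ψ : E →* MulAut A) :
    ∃ ρ : E →* (Additive A ≃ₗ[ZMod p] Additive A),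
      ∀ (e : E) (x : Additive A), ρ e x = Additive.ofMul (ψ e (Additive.toMul x)) := by
  let toLin : MulAut A →* (Additive A ≃ₗ[ZMod p] Additive A) :=
    MonoidHom.mk' (fun σ => { MulEquiv.toAdditive σ with
        map_smul' := ZMod.map_smul (MulEquiv.toAdditive σ).toAddMonoidHom })
      fun σ τ => LinearEquiv.ext fun x => rfl
  exact ⟨toLin.comp ψ, fun e x => rfl⟩

theorem card_le_three_of_action [Fact p.Prime] (ψ : E →* MulAut A) (hinj : Function.Injective ψ)
    (htrans : ∀ a b : A, a ≠ 1 → b ≠ 1 → ∃ e : E, ψ e a = b) (hexp : ∀ a : A, a ^ p = 1)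
    (hconj : ∀ g g' : E, g ≠ 1 → g' ≠ 1 → IsCyclic (centralizer ({g} : Set E)) →
      IsCyclic (centralizer ({g'} : Set E)) → IsConj g g')
    (hprime : ∀ (g : E) (r : ℕ), g ≠ 1 → r.Prime → Nat.card (centralizer ({g} : Set E)) = r →
      r % 4 ≠ 3 ∧ ∃ d : ℕ, Nat.card E = r * d ^ 2)
    (hp2 : p ≠ 2) (hpE : ¬ p ∣ Nat.card E) : Nat.card A ≤ 3 := by
  suffices h : ∀ _ : Module (ZMod p) (Additive A), Nat.card A ≤ 3 from
    h (AddCommGroup.zmodModule fun x => Additive.toMul.injective (hexp (Additive.toMul x)))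
  intro _
  obtain ⟨ρ, hρ⟩ := exists_linearRep (p := p) ψ
  have hgood : Good ρ :=
    { inj := fun e e' h => hinj (MulEquiv.ext fun a => by
        have h' : ρ e (Additive.ofMul a) = ρ e' (Additive.ofMul a) := by rw [h]
        rw [hρ, hρ] at h'
        exact Additive.ofMul.injective h')
      trans := fun v w hv hw => by
        obtain ⟨e, he⟩ := htrans (Additive.toMul v) (Additive.toMul w)
          (fun h => hv (Additive.toMul.injective h)) (fun h => hw (Additive.toMul.injective h))
        exact ⟨e, by rw [hρ, he]; rfl⟩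
      conj := hconj
      prime := hprime }
  exact (card_le_three hgood hp2 hpE : Nat.card (Additive A) ≤ 3)

end CfsgLib.Blocks.ThreeChars
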