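import Cfsg.Agent.Lib.Blocks.ThreeChars.GoodClass
import Cfsg.Agent.Lib.Blocks.InertialDefect
import Cfsg.Agent.Lib.Blocks.GroupAlg
import Cfsg.Agent.Lib.Char.Central

/-!
# At most two characters over an invariant character

Then the good elements of the quotient other than `1` are conjugate, and a centralizer of prime
order `r` in the quotient forces `r % 4 ≠ 3` and an order `r d²`.
-/

set_option autoImplicit false

namespace CfsgLib.Blocks.ThreeChars

open Cfsg CfsgLib.Char CfsgLib.Clifford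
open scoped ComplexConjugate

/-- The arithmetic. -/
theorem prime_sum_sq {a c h r : ℕ} (hr : r.Prime) (ha : a ≠ 0) (hc : c ≠ 0)
    (hsum : a ^ 2 + c ^ 2 = r * h) (h1 : h ∣ a ^ 2) (h2 : h ∣ c ^ 2) :
    r % 4 ≠ 3 ∧ ∃ d : ℕ, r * h = r * d ^ 2 := by
  obtain ⟨a', c', hcop, hea, hec⟩ := Nat.exists_coprime a c
  set d := Nat.gcd a c with hd
  have hd0 : d ≠ 0 := fun e => ha (by rw [hea, e, mul_zero])
  obtain ⟨k, hk⟩ : h ∣ d ^ 2 := by
    rw [hd, ← Nat.pow_gcd_pow]
    exact Nat.dvd_gcd h1 h2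
  have hh0 : 0 < h := Nat.pos_of_ne_zero fun e => by
    rw [e, zero_mul] at hk
    exact hd0 (pow_eq_zero_iff two_ne_zero |>.1 hk)
  have hr' : r = k * (a' ^ 2 + c' ^ 2) := by
    refine Nat.eq_of_mul_eq_mul_right hh0 ?_
    rw [← hsum, hea, hec, mul_pow, mul_pow, hk]
    ring
  have ha' : a' ≠ 0 := fun e => ha (by rw [hea, e, zero_mul])
  have hc' : c' ≠ 0 := fun e => hc (by rw [hec, e, zero_mul])
  have h2le : 2 ≤ a' ^ 2 + c' ^ 2 := by
    have := Nat.one_le_pow 2 a' (Nat.pos_of_ne_zero ha')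
    have := Nat.one_le_pow 2 c' (Nat.pos_of_ne_zero hc')
    omega
  have hk1 : k = 1 := by
    rcases (Nat.dvd_prime hr).1 (Dvd.intro _ hr'.symm) with h | h
    · exact h
    · subst h
      have := hr.pos
      nlinarith
  rw [hk1, one_mul] at hr'
  refine ⟨?_, d, by rw [hk, hk1, mul_one]⟩
  have hsq : ∀ x : ℕ, x ^ 2 % 4 = 0 ∨ x ^ 2 % 4 = 1 := fun x => by
    rcases Nat.even_or_odd' x with ⟨t, rfl | rfl⟩
    · left; rw [show (2 * t) ^ 2 = 4 * (t * t) by ring]; omega
    · right; rw [show (2 * t + 1) ^ 2 = 4 * (t * t + t) + 1 by ring]; omega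
  rw [hr', Nat.add_mod]
  rcases hsq a' with e | e <;> rcases hsq c' with e' | e' <;> rw [e, e'] <;> norm_num

variable {G : Type*} [Group G] [Fintype G] {C : Subgroup G} [hC : C.Normal] [Fintype C]
  {θ : IrrCharacter C}

/-- The class function supported on the normal subgroup. -/
theorem exists_baseFun (hinv : ∀ g : G, conjFn hC (θ : C → ℂ) g = (θ : C → ℂ)) :
    ∃ F : G → ℂ, IsClassFunction G F ∧
      (∀ χ : IrrCharacter G, χ ∉ Over C θ → classInner F (χ : G → ℂ) = 0) ∧
      (∀ x, F x ≠ 0 → (x : G ⧸ C) = 1) ∧ F 1 ≠ 0 := by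
  classical
  refine ⟨fun x => if h : x ∈ C then (θ : C → ℂ) ⟨x, h⟩ else 0, fun x y => ?_, fun χ hχ => ?_,
    fun x hx => ?_, ?_⟩
  · dsimp only
    by_cases hx : x ∈ C
    · rw [dif_pos hx, dif_pos (hC.conj_mem x hx y)]
      exact congrFun (hinv y) ⟨x, hx⟩
    · rw [dif_neg hx, dif_neg]
      intro h
      exact hx (by simpa [mul_assoc] using hC.conj_mem _ h y⁻¹)
  · rw [classInner]
    refine mul_eq_zero_of_right _ ?_
    rw [← Finset.sum_subset (Finset.subset_univ (Finset.univ.filter (· ∈ C)))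
      (fun x _ hx => by rw [dif_neg (by simpa using hx), zero_mul]),
      Finset.sum_subtype _ (p := (· ∈ C)) (by simp)]
    have h0 : classInner (θ : C → ℂ) (fun n : C => (χ : G → ℂ) n) = 0 := by
      rw [← classInner_conj_symm]
      have : classInner (fun n : C => (χ : G → ℂ) n) (θ : C → ℂ) = 0 := by_contra hχ
      rw [this, map_zero]
    rw [classInner, mul_eq_zero] at h0
    refine Eq.trans (Finset.sum_congr rfl fun n _ => ?_)
      (h0.resolve_left (inv_ne_zero (Nat.cast_ne_zero.2 Nat.card_pos.ne')))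
    rw [dif_pos n.2]
  · by_contra hne
    exact hx (dif_neg fun h => hne ((QuotientGroup.eq_one_iff x).2 h))
  · dsimp only
    rw [dif_pos (one_mem C)]
    exact IsIrr.apply_one_ne_zero θ.2

/-- The span of the characters over `θ`. -/
def overSpan (C : Subgroup G) [Fintype C] (θ : IrrCharacter C) : Submodule ℂ (G → ℂ) :=
  Submodule.span ℂ (Set.range fun χ : Over C θ => ((χ : IrrCharacter G) : G → ℂ))

omit hC in
theorem mem_overSpan {F : G → ℂ} (hF : IsClassFunction G F)
    (h : ∀ χ : IrrCharacter G, χ ∉ Over C θ → classInner F (χ : G → ℂ) = 0) :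
    F ∈ overSpan C θ := by
  have := Fintype.ofFinite (IrrCharacter G)
  rw [classFunction_eq_sum hF]
  refine Submodule.sum_mem _ fun χ _ => ?_
  by_cases hχ : χ ∈ Over C θ
  · exact Submodule.smul_mem _ _ (Submodule.subset_span ⟨⟨χ, hχ⟩, rfl⟩)
  · rw [h χ hχ, zero_smul]
    exact Submodule.zero_mem _

omit hC in
theorem finrank_overSpan_le : Module.finrank ℂ (overSpan C θ) ≤ Nat.card (Over C θ) := by
  have := Fintype.ofFinite (Over C θ)
  rw [Nat.card_eq_fintype_card]
  exact finrank_range_le_card _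

variable (hinv : ∀ g : G, conjFn hC (θ : C → ℂ) g = (θ : C → ℂ))
  (h2 : Nat.card (Over C θ) ≤ 2)
include hinv h2

/-- The good classes. -/
theorem isConj_of_good (q q' : G ⧸ C) (hq : q ≠ 1) (hq' : q' ≠ 1)
    (hcq : IsCyclic (Subgroup.centralizer ({q} : Set (G ⧸ C))))
    (hcq' : IsCyclic (Subgroup.centralizer ({q'} : Set (G ⧸ C)))) : IsConj q q' := by
  classical
  obtain ⟨g, rfl⟩ := QuotientGroup.mk_surjective q
  obtain ⟨g', rfl⟩ := QuotientGroup.mk_surjective q'
  by_contra hne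
  obtain ⟨F₀, h0c, h0o, h0s, h00⟩ := exists_baseFun hinv
  obtain ⟨⟨F₁, h1c, h1o, h1s, x₁, hx₁, h11⟩, -⟩ := exists_goodFun hinv g hcq
  obtain ⟨⟨F₂, h2c, h2o, h2s, x₂, hx₂, h22⟩, -⟩ := exists_goodFun hinv g' hcq'
  let v : Fin 3 → overSpan C θ := ![⟨F₀, mem_overSpan h0c h0o⟩, ⟨F₁, mem_overSpan h1c h1o⟩,
    ⟨F₂, mem_overSpan h2c h2o⟩]
  have e01 : F₁ 1 = 0 := by_contra fun h => hq (isConj_one_right.1 (h1s 1 h))
  have e02 : F₂ 1 = 0 := by_contra fun h => hq' (isConj_one_right.1 (h2s 1 h))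
  have e10 : F₀ x₁ = 0 := by_contra fun h => hq (hx₁ ▸ h0s x₁ h)
  have e12 : F₂ x₁ = 0 := by_contra fun h => hne (hx₁ ▸ h2s x₁ h)
  have e20 : F₀ x₂ = 0 := by_contra fun h => hq' (hx₂ ▸ h0s x₂ h)
  have e21 : F₁ x₂ = 0 := by_contra fun h => hne (hx₂ ▸ h1s x₂ h).symm
  have hv : LinearIndependent ℂ v := by
    rw [Fintype.linearIndependent_iff]
    intro c hc
    have hc' := congrArg Subtype.val hc
    simp only [v, Fin.sum_univ_three, Matrix.cons_val_zero, Matrix.cons_val_one,
      Matrix.cons_val_two, Matrix.head_cons, Matrix.tail_cons, Submodule.coe_add,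
      Submodule.coe_smul, ZeroMemClass.coe_zero] at hc'
    have a0 := congrFun hc' 1
    have a1 := congrFun hc' x₁
    have a2 := congrFun hc' x₂
    simp only [Pi.add_apply, Pi.smul_apply, smul_eq_mul, Pi.zero_apply, e01, e02, e10, e12, e20,
      e21, mul_zero, add_zero, zero_add, mul_eq_zero, h00, h11, h22, or_false] at a0 a1 a2
    intro i
    fin_cases i
    exacts [a0, a1, a2]
  have h3 := hv.fintype_card_le_finrank
  rw [Fintype.card_fin] at h3
  have := (finrank_overSpan_le (C := C) (θ := θ)).trans h2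
  omega

/-- A centralizer of prime order. -/
theorem prime_centralizer (q : G ⧸ C) (r : ℕ) (hq : q ≠ 1) (hr : r.Prime)
    (hcard : Nat.card (Subgroup.centralizer ({q} : Set (G ⧸ C))) = r) :
    r % 4 ≠ 3 ∧ ∃ d : ℕ, Nat.card (G ⧸ C) = r * d ^ 2 := by
  classical
  obtain ⟨g, rfl⟩ := QuotientGroup.mk_surjective q
  have : Fact r.Prime := ⟨hr⟩
  have hcyc := isCyclic_of_prime_card hcard
  obtain ⟨F₀, h0c, h0o, h0s, h00⟩ := exists_baseFun hinv
  obtain ⟨⟨F₁, h1c, h1o, h1s, x₁, hx₁, h11⟩, hξ⟩ := exists_goodFun hinv g hcyc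
  let v : Fin 2 → overSpan C θ := ![⟨F₀, mem_overSpan h0c h0o⟩, ⟨F₁, mem_overSpan h1c h1o⟩]
  have e01 : F₁ 1 = 0 := by_contra fun h => hq (isConj_one_right.1 (h1s 1 h))
  have e10 : F₀ x₁ = 0 := by_contra fun h => hq (hx₁ ▸ h0s x₁ h)
  have hv : LinearIndependent ℂ v := by
    rw [Fintype.linearIndependent_iff]
    intro c hc
    have hc' := congrArg Subtype.val hc
    simp only [v, Fin.sum_univ_two, Matrix.cons_val_zero, Matrix.cons_val_one,
      Submodule.coe_add, Submodule.coe_smul, ZeroMemClass.coe_zero] at hc'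
    have a0 := congrFun hc' 1
    have a1 := congrFun hc' x₁
    simp only [Pi.add_apply, Pi.smul_apply, smul_eq_mul, Pi.zero_apply, e01, e10, mul_zero,
      add_zero, zero_add, mul_eq_zero, h00, h11, or_false] at a0 a1
    intro i
    fin_cases i
    exacts [a0, a1]
  have hW2 : Module.finrank ℂ (overSpan C θ) ≤ 2 := finrank_overSpan_le.trans h2
  have hge := hv.fintype_card_le_finrank
  rw [Fintype.card_fin] at hge
  have htop := hv.span_eq_top_of_card_eq_finrank' (by rw [Fintype.card_fin]; omega)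
  -- characters over `θ` live on `C` and the class of `g`
  have hsupp : ∀ χ ∈ Over C θ, ∀ x : G, (χ : G → ℂ) x ≠ 0 →
      (x : G ⧸ C) = 1 ∨ IsConj (x : G ⧸ C) (g : G ⧸ C) := by
    intro χ hχ x hx
    have hm : (⟨(χ : G → ℂ), Submodule.subset_span ⟨⟨χ, hχ⟩, rfl⟩⟩ : overSpan C θ) ∈
        Submodule.span ℂ (Set.range v) := htop ▸ Submodule.mem_top
    obtain ⟨c, hc⟩ := (Submodule.mem_span_range_iff_exists_fun ℂ).1 hm
    have h := congrFun (congrArg Subtype.val hc) x
    simp only [v, Fin.sum_univ_two, Matrix.cons_val_zero, Matrix.cons_val_one,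
      Submodule.coe_add, Submodule.coe_smul, Pi.add_apply, Pi.smul_apply, smul_eq_mul] at h
    by_contra hno
    push Not at hno
    have z0 : F₀ x = 0 := by_contra fun h' => hno.1 (h0s x h')
    have z1 : F₁ x = 0 := by_contra fun h' => hno.2 (h1s x h')
    rw [z0, z1, mul_zero, mul_zero, add_zero] at h
    exact hx h.symm
  -- exactly two characters
  have hcard2 : Nat.card (Over C θ) = 2 := by
    have := hge.trans (finrank_overSpan_le (C := C) (θ := θ))
    omega
  obtain ⟨A, A', hAA, huniv⟩ := Nat.card_eq_two_iff.1 hcard2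
  obtain ⟨e, o, t, he, -, -, hsum, hstab⟩ := exists_clifford_degrees C θ
  have := Fintype.ofFinite (IrrCharacter G)
  have ht : t = Nat.card (G ⧸ C) := by
    rw [Nat.card_congr (Equiv.subtypeUnivEquiv hinv), Subgroup.card_eq_card_quotient_mul_card_subgroup C,
      mul_comm] at hstab
    exact Nat.eq_of_mul_eq_mul_right Nat.card_pos hstab
  have hne : ∀ B : Over C θ, e B.1 ≠ 0 := fun B h => B.2 (by rw [he, h, Nat.cast_zero])
  have hAA' : A.1 ≠ A'.1 := fun h => hAA (Subtype.ext h)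
  have hsum2 : e A.1 ^ 2 + e A'.1 ^ 2 = Nat.card (G ⧸ C) := by
    rw [← ht, ← hsum, ← Finset.sum_pair (f := fun χ => e χ ^ 2) hAA']
    refine Finset.sum_subset (Finset.subset_univ _) fun χ _ hχ => ?_
    by_contra h0
    have hχO : χ ∈ Over C θ := by
      rw [mem_over, he, Nat.cast_ne_zero]
      exact fun h => h0 (by rw [h]; norm_num)
    have := (Set.ext_iff.1 huniv ⟨χ, hχO⟩).2 (Set.mem_univ _)
    simp only [Set.mem_insert_iff, Set.mem_singleton_iff] at this
    simp only [Finset.mem_insert, Finset.mem_singleton] at hχ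
    rcases this with h | h <;> exact hχ (by simp [← h])
  -- the norms
  set h := (Subgroup.centralizer ({(g : G ⧸ C)} : Set (G ⧸ C))).index with hh
  have hh0 : h ≠ 0 := Subgroup.index_ne_zero_of_finite
  have hEh : Nat.card (G ⧸ C) = r * h := by
    rw [hh, ← hcard, Subgroup.card_mul_index]
  have := Fintype.ofFinite (G ⧸ C)
  have key : ∀ B : Over C θ, ∃ ξ : ℂ, IsIntegral ℤ ξ ∧
      (e B.1 : ℂ) ^ 2 + (h : ℂ) * (ξ * conj ξ) = (Nat.card (G ⧸ C) : ℂ) := by
    intro B
    obtain ⟨ξ, hint, hS⟩ := hξ B.1 B.2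
    refine ⟨ξ, hint, ?_⟩
    let S : G ⧸ C → ℂ := fun q => ∑ x ∈ Finset.univ.filter (fun x : G => (x : G ⧸ C) = q),
      (B.1 : G → ℂ) x * conj ((B.1 : G → ℂ) x)
    have htot : ∑ q, S q = (Nat.card G : ℂ) := by
      rw [Finset.sum_fiberwise Finset.univ (fun x : G => (x : G ⧸ C))
        fun x => (B.1 : G → ℂ) x * conj ((B.1 : G → ℂ) x)]
      have h1 := classInner_irr_self B.1
      rw [classInner, inv_mul_eq_one₀ (Nat.cast_ne_zero.2 Nat.card_pos.ne')] at h1
      exact h1.symm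
    have hS1 : S 1 = (Nat.card C : ℂ) * (e B.1 : ℂ) ^ 2 := by
      have hres := restrict_eq_smul hinv B.2
      rw [he] at hres
      simp only [S]
      rw [Finset.sum_subtype _ (p := (· ∈ C)) (fun x => by simp [QuotientGroup.eq_one_iff])]
      have hn := classInner_irr_self θ
      rw [classInner, inv_mul_eq_one₀ (Nat.cast_ne_zero.2 Nat.card_pos.ne')] at hn
      rw [hn, Finset.sum_mul]
      refine Finset.sum_congr rfl fun n _ => ?_
      have hb : (B.1 : G → ℂ) (n : G) = (e B.1 : ℂ) * (θ : C → ℂ) n := congrFun hres n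
      rw [hb, map_mul, Complex.conj_natCast]
      ring
    have hSc : ∀ q, IsConj (g : G ⧸ C) q → S q = S (g : G ⧸ C) := by
      intro q hq'
      obtain ⟨w, hw⟩ := isConj_iff.1 hq'
      obtain ⟨y, rfl⟩ := QuotientGroup.mk_surjective w
      refine (Finset.sum_equiv (MulAut.conj y).toEquiv (fun x => ?_) fun x _ => ?_).symm
      · simp only [Finset.mem_filter, Finset.mem_univ, true_and, MulEquiv.toEquiv_eq_coe,
          MulEquiv.coe_toEquiv, MulAut.conj_apply, QuotientGroup.mk_mul, QuotientGroup.mk_inv, ← hw,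
          mul_left_inj, mul_right_inj]
      · simp only [MulEquiv.toEquiv_eq_coe, MulEquiv.coe_toEquiv, MulAut.conj_apply,
          IsIrr.isClassFunction B.1.2 x y]
    have hS0 : ∀ q, q ≠ 1 → ¬ IsConj (g : G ⧸ C) q → S q = 0 := fun q h1 hq' =>
      Finset.sum_eq_zero fun x hx => by
        by_contra hne'
        rcases hsupp B.1 B.2 x (left_ne_zero_of_mul hne') with h' | h'
        · exact h1 ((Finset.mem_filter.1 hx).2 ▸ h')
        · exact hq' ((Finset.mem_filter.1 hx).2 ▸ h').symm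
    have h1not : ¬ IsConj (g : G ⧸ C) 1 := fun h => hq (isConj_one_left.1 h)
    rw [← Finset.add_sum_erase _ _ (Finset.mem_univ (1 : G ⧸ C)),
      ← Finset.sum_subset (s₁ := Finset.univ.filter (IsConj (g : G ⧸ C)))
        (fun q hq' => Finset.mem_erase.2 ⟨fun e => h1not (by
          have := (Finset.mem_filter.1 hq').2
          rwa [e] at this),
          Finset.mem_univ _⟩)
        (fun q hq' hn => hS0 q (Finset.mem_erase.1 hq').1 fun hc => hn (Finset.mem_filter.2 ⟨Finset.mem_univ _, hc⟩)),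
      Finset.sum_congr rfl fun q hq' => hSc q (Finset.mem_filter.1 hq').2, Finset.sum_const,
      nsmul_eq_mul, ← Fintype.card_subtype, ← Nat.card_eq_fintype_card, card_isConj_eq_index,
      ← hh, hS1, show S (g : G ⧸ C) = (Nat.card C : ℂ) * (ξ * conj ξ) from hS,
      Subgroup.card_eq_card_quotient_mul_card_subgroup C, Nat.cast_mul] at htot
    refine mul_left_cancel₀ (Nat.cast_ne_zero.2 (Nat.card_pos (α := C)).ne') ?_
    linear_combination htot
  have hdvd : ∀ B B' : Over C θ, e B.1 ^ 2 + e B'.1 ^ 2 = Nat.card (G ⧸ C) → h ∣ e B'.1 ^ 2 := by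
    intro B B' hs
    obtain ⟨ξ, hint, hk⟩ := key B
    refine CfsgLib.CharIntegral.dvd_of_isIntegral_div hh0 ?_
    have hc' : ((e B'.1 ^ 2 : ℕ) : ℂ) / (h : ℂ) = ξ * conj ξ := by
      rw [div_eq_iff (Nat.cast_ne_zero.2 hh0)]
      rw [← hs] at hk
      push_cast at hk ⊢
      linear_combination -hk
    rw [hc']
    exact hint.mul (hint.map (starRingEnd ℂ).toIntAlgHom)
  obtain ⟨h43, d, hd⟩ := prime_sum_sq hr (hne A) (hne A') (hsum2.trans hEh)
    (hdvd A' A (by rw [add_comm, hsum2])) (hdvd A A' hsum2)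
  exact ⟨h43, d, hEh.trans hd⟩

end CfsgLib.Blocks.ThreeChars
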