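import Cfsg.Agent.Lib.Char.Gallagher
import Cfsg.Agent.Lib.Char.CliffordCorr
import Cfsg.Agent.Lib.CharDegree.CyclicExtend
import Mathlib.GroupTheory.SpecificGroups.Cyclic

/-!
# A class function on a good class

`C` is normal in `G` and `θ` is invariant. For an element `g` whose image in `G ⧸ C` has cyclic
centralizer there is a class function in the span of the characters over `θ`, living on the class of
`g C` and nonzero on `g C`; on `g C` each character over `θ` is an algebraic integer times a fixed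
function of norm `|C|`.
-/

set_option autoImplicit false

namespace CfsgLib.Blocks.ThreeChars

open Cfsg CfsgLib.Char CfsgLib.Clifford CfsgLib.Gallagher
open scoped ComplexConjugate

variable {G : Type*} [Group G] [Fintype G] (C : Subgroup G) [hC : C.Normal] [Fintype C]
  (θ : IrrCharacter C)

/-- The characters over `θ`. -/
def Over : Set (IrrCharacter G) :=
  {χ | classInner (fun n : C => (χ : G → ℂ) n) (θ : C → ℂ) ≠ 0}

variable {C θ}

theorem mem_over {χ : IrrCharacter G} :
    χ ∈ Over C θ ↔ classInner (fun n : C => (χ : G → ℂ) n) (θ : C → ℂ) ≠ 0 := Iff.rfl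

/-- A character over an invariant `θ` restricts to a multiple of it. -/
theorem restrict_eq_smul (hinv : ∀ g : G, conjFn hC (θ : C → ℂ) g = (θ : C → ℂ))
    {χ : IrrCharacter G} (hχ : χ ∈ Over C θ) :
    (fun n : C => (χ : G → ℂ) n) =
      classInner (fun n : C => (χ : G → ℂ) n) (θ : C → ℂ) • (θ : C → ℂ) := by
  classical
  have h := restrict_eq_smul_orbit_sum hC χ.2 θ.2 hχ
  have horb : Finset.univ.image (conjFn hC (θ : C → ℂ)) = {(θ : C → ℂ)} := by
    ext f
    simp only [Finset.mem_image, Finset.mem_univ, true_and, Finset.mem_singleton]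
    exact ⟨fun ⟨g, hg⟩ => hg ▸ hinv g, fun hf => ⟨1, hf ▸ hinv 1⟩⟩
  rwa [horb, Finset.sum_singleton] at h

omit hC in
/-- Constituents of constituents are constituents. -/
theorem constituent_of_constituent {K : Subgroup G} [Fintype K] (hCK : C ≤ K)
    {χ : IrrCharacter G} {φ : IrrCharacter K} {ψ : IrrCharacter C}
    (h1 : classInner (fun k : K => (χ : G → ℂ) k) (φ : K → ℂ) ≠ 0)
    (h2 : classInner (resTo hCK (φ : K → ℂ)) (ψ : C → ℂ) ≠ 0) :
    classInner (fun n : C => (χ : G → ℂ) n) (ψ : C → ℂ) ≠ 0 := by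
  classical
  have := Fintype.ofFinite (IrrCharacter K)
  rw [classInner_resTo_restrict hCK (IsIrr.isCharacter χ.2)]
  choose a ha using fun φ : IrrCharacter K =>
    IsChar.classInner_eq_natCast (IsChar.restrict K (IsIrr.isCharacter χ.2)) (IsIrr.isCharacter φ.2)
  choose b hb using fun φ : IrrCharacter K =>
    IsChar.classInner_eq_natCast (isCharacter_resTo hCK (IsIrr.isCharacter φ.2))
      (IsIrr.isCharacter ψ.2)
  simp only [ha, hb, ← Nat.cast_mul, ← Nat.cast_sum]
  rw [Nat.cast_ne_zero]
  intro h0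
  rcases mul_eq_zero.1 (Finset.sum_eq_zero_iff.1 h0 φ (Finset.mem_univ _)) with h | h
  · exact h1 (by rw [ha, h, Nat.cast_zero])
  · exact h2 (by rw [hb, h, Nat.cast_zero])

/-- A character of a group with abelian quotient, irreducible on the normal subgroup, has the same
norm on every coset. -/
theorem sum_coset_mul_conj {K : Type*} [Group K] [Fintype K] (N : Subgroup K) [N.Normal]
    (hcomm : ∀ a b : K ⧸ N, a * b = b * a) [DecidableEq (K ⧸ N)] {μ : K → ℂ}
    (hμ : IsCharacter K μ) (hres : IsIrrCharacter N fun n : N => μ n) (q : K ⧸ N) :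
    ∑ k ∈ Finset.univ.filter (fun k : K => QuotientGroup.mk' N k = q), μ k * conj (μ k) =
      (Nat.card N : ℂ) := by
  classical
  have := Fintype.ofFinite (K ⧸ N)
  have := Fintype.ofFinite (IrrCharacter (K ⧸ N))
  let S : K ⧸ N → ℂ := fun q =>
    ∑ k ∈ Finset.univ.filter (fun k : K => QuotientGroup.mk' N k = q), μ k * conj (μ k)
  have hS : IsClassFunction (K ⧸ N) S := fun a b => by
    rw [hcomm b a, mul_inv_cancel_right]
  have hone : ∀ k, twistBy μ (trivChar (K ⧸ N) : K ⧸ N → ℂ) k = μ k := fun k => by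
    rw [twistBy_apply, trivChar_apply, one_mul]
  have hinner : ∀ β : IrrCharacter (K ⧸ N),
      classInner S (β : K ⧸ N → ℂ) = if β = trivChar (K ⧸ N) then (Nat.card N : ℂ) else 0 := by
    intro β
    have h := classInner_twistBy hμ hres (trivChar (K ⧸ N)) β
    rw [classInner] at h ⊢
    simp only [hone, twistBy_apply, map_mul] at h
    simp only [S, Finset.sum_mul]
    have e1 : ∑ q : K ⧸ N, ∑ k ∈ Finset.univ.filter (fun k : K => QuotientGroup.mk' N k = q),
        μ k * conj (μ k) * conj ((β : K ⧸ N → ℂ) q) =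
        ∑ k, μ k * conj (μ k) * conj ((β : K ⧸ N → ℂ) (QuotientGroup.mk' N k)) := by
      rw [← Finset.sum_fiberwise Finset.univ (fun k : K => QuotientGroup.mk' N k)
        fun k => μ k * conj (μ k) * conj ((β : K ⧸ N → ℂ) (QuotientGroup.mk' N k))]
      exact Finset.sum_congr rfl fun q _ => Finset.sum_congr rfl fun k hk => by
        rw [(Finset.mem_filter.1 hk).2]
    rw [e1, show (if β = trivChar (K ⧸ N) then (Nat.card N : ℂ) else 0) =
        (Nat.card N : ℂ) * if trivChar (K ⧸ N) = β then 1 else 0 by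
          simp [eq_comm (a := β)], ← h, ← mul_assoc]
    congr 1
    · rw [Subgroup.card_eq_card_quotient_mul_card_subgroup N, Nat.cast_mul, mul_inv,
        mul_comm, mul_assoc, inv_mul_cancel₀ (Nat.cast_ne_zero.2 Nat.card_pos.ne'), mul_one]
    · exact Finset.sum_congr rfl fun k _ => by ring
  have h := classFunction_apply_eq_sum hS q
  simp only [hinner, ite_mul, zero_mul, Finset.sum_ite_eq', Finset.mem_univ, if_true,
    trivChar_apply, mul_one] at h
  exact h

/-- The class function of a good class. -/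
theorem exists_goodFun (hinv : ∀ g : G, conjFn hC (θ : C → ℂ) g = (θ : C → ℂ))
    [DecidableEq (G ⧸ C)] (g : G)
    (hcyc : IsCyclic (Subgroup.centralizer ({(g : G ⧸ C)} : Set (G ⧸ C)))) :
    (∃ F : G → ℂ, IsClassFunction G F ∧
      (∀ χ : IrrCharacter G, χ ∉ Over C θ → classInner F (χ : G → ℂ) = 0) ∧
      (∀ x, F x ≠ 0 → IsConj (x : G ⧸ C) (g : G ⧸ C)) ∧
      ∃ x : G, (x : G ⧸ C) = (g : G ⧸ C) ∧ F x ≠ 0) ∧
    ∀ χ ∈ Over C θ, ∃ ξ : ℂ, IsIntegral ℤ ξ ∧
      ∑ x ∈ Finset.univ.filter (fun x : G => (x : G ⧸ C) = (g : G ⧸ C)),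
        (χ : G → ℂ) x * conj ((χ : G → ℂ) x) = (Nat.card C : ℂ) * (ξ * conj ξ) := by
  classical
  set Z := Subgroup.centralizer ({(g : G ⧸ C)} : Set (G ⧸ C)) with hZ
  set K : Subgroup G := Z.comap (QuotientGroup.mk' C) with hK
  have hCK : C ≤ K := fun n hn => by
    rw [hK, Subgroup.mem_comap, QuotientGroup.mk'_apply, (QuotientGroup.eq_one_iff n).2 hn]
    exact one_mem _
  have hKmem : ∀ x : G, x ∈ K ↔ Commute (x : G ⧸ C) (g : G ⧸ C) := fun x => by
    rw [hK, Subgroup.mem_comap, hZ, Subgroup.mem_centralizer_singleton_iff]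
    rfl
  have hmemK : ∀ x : G, (x : G ⧸ C) = (g : G ⧸ C) → x ∈ K := fun x hx =>
    (hKmem x).2 (hx ▸ Commute.refl _)
  have := Fintype.ofFinite K
  set N := C.subgroupOf K with hN
  have := Fintype.ofFinite N
  let π : K →* Z := ((QuotientGroup.mk' C).comp K.subtype).codRestrict Z fun k => k.2
  have hπker : π.ker = N := by
    ext k
    rw [MonoidHom.mem_ker, hN, Subgroup.mem_subgroupOf, ← QuotientGroup.eq_one_iff, Subtype.ext_iff]
    rfl
  have hcycK : IsCyclic (K ⧸ N) := by
    have : IsCyclic (K ⧸ π.ker) := isCyclic_of_injective (QuotientGroup.kerLift π)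
      (QuotientGroup.kerLift_injective π)
    exact isCyclic_of_surjective (QuotientGroup.quotientMulEquivOfEq hπker).toMonoidHom
      (QuotientGroup.quotientMulEquivOfEq hπker).surjective
  have hcomm : ∀ a b : K ⧸ N, a * b = b * a := fun a b => by
    have := hcycK.isMulCommutative
    exact mul_comm' a b
  let e : N ≃* C := Subgroup.subgroupOfEquivOfLe hCK
  have heval : ∀ n : N, ((e n : C) : G) = ((n : K) : G) := fun n => rfl
  obtain ⟨d, σ, hσ, hσc⟩ : IsIrrCharacter N fun n : N => (θ : C → ℂ) (e n) :=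
    IsIrr.comp_surjective e.toMonoidHom e.surjective θ.2
  have := hσ
  obtain ⟨ρ, hρ⟩ := CfsgLib.CharDegree.exists_extension_of_cyclic σ (fun k n => by
    rw [hσc]
    have h := congrFun (hinv (k : G)) (e n)
    rw [conjFn_apply] at h
    refine Eq.trans ?_ h
    exact congrArg _ (Subtype.ext rfl)) hcycK
  set μ : K → ℂ := ρ.character with hμdef
  have hμ : IsCharacter K μ := isCharacter_rep ρ
  have hμN : ∀ n : N, μ n = (θ : C → ℂ) (e n) := fun n => by
    rw [← show σ.character n = (θ : C → ℂ) (e n) from congrFun hσc n]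
    simp only [hμdef, Representation.character, hρ]
  have hres : IsIrrCharacter N fun n : N => μ n := by
    rw [show (fun n : N => μ n) = fun n => (θ : C → ℂ) (e n) from funext hμN]
    exact IsIrr.comp_surjective e.toMonoidHom e.surjective θ.2
  have hinnerN : ∀ φ : K → ℂ,
      classInner (fun n : N => φ n) (fun n : N => μ n) = classInner (resTo hCK φ) (θ : C → ℂ) := by
    intro φ
    rw [← Clifford.classInner_comp_equiv e (resTo hCK φ) (θ : C → ℂ)]
    congr 1
    exact funext hμN
  -- the coset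
  have hgK : g ∈ K := hmemK g rfl
  set q₀ : K ⧸ N := QuotientGroup.mk' N ⟨g, hgK⟩ with hq₀
  have hq : ∀ k : K, QuotientGroup.mk' N k = q₀ ↔ ((k : G) : G ⧸ C) = (g : G ⧸ C) := fun k => by
    rw [hq₀, QuotientGroup.mk'_apply, QuotientGroup.mk'_apply, QuotientGroup.eq, QuotientGroup.eq,
      hN, Subgroup.mem_subgroupOf]
    rfl
  have := Fintype.ofFinite (IrrCharacter (K ⧸ N))
  have := Fintype.ofFinite (IrrCharacter K)
  have hnorm := sum_coset_mul_conj N hcomm hμ hres q₀
  obtain ⟨k₀, hk₀q, hk₀⟩ : ∃ k : K, QuotientGroup.mk' N k = q₀ ∧ μ k ≠ 0 := by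
    by_contra! hno
    rw [Finset.sum_eq_zero fun k hk => by rw [hno k (Finset.mem_filter.1 hk).2, zero_mul]] at hnorm
    exact Nat.card_pos.ne' (Nat.cast_eq_zero.1 hnorm.symm)
  refine ⟨?_, fun χ hχ => ?_⟩
  · let f : K → ℂ := fun k => if QuotientGroup.mk' N k = q₀ then μ k else 0
    have hf : IsClassFunction K f := fun a b => by
      simp only [f]
      rw [map_mul, map_mul, map_inv, hcomm (QuotientGroup.mk' N b), mul_inv_cancel_right,
        IsChar.isClassFunction hμ a b]
    let δ : K ⧸ N → ℂ := fun q => if q = q₀ then 1 else 0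
    have hδ : IsClassFunction (K ⧸ N) δ := fun a b => by
      rw [hcomm b a, mul_inv_cancel_right]
    have hfsum : f = ∑ β : IrrCharacter (K ⧸ N),
        classInner δ (β : K ⧸ N → ℂ) • twistBy μ (β : K ⧸ N → ℂ) := by
      funext k
      simp only [Finset.sum_apply, Pi.smul_apply, smul_eq_mul, twistBy_apply, ← mul_assoc,
        ← Finset.sum_mul, ← classFunction_apply_eq_sum hδ]
      simp only [f, δ]
      split <;> simp
    have hF1 : ∀ x : G, (x : G ⧸ C) = (g : G ⧸ C) → ∀ hx : x ∈ K, indFun K f x = f ⟨x, hx⟩ := by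
      intro x hxg hx
      have hterm : ∀ y : G, extendByZero K f (y⁻¹ * x * y) = if y ∈ K then f ⟨x, hx⟩ else 0 := by
        intro y
        by_cases hy : y ∈ K
        · rw [if_pos hy, show y⁻¹ * x * y =
              (((⟨y, hy⟩ : K)⁻¹ * ⟨x, hx⟩ * ⟨y, hy⟩ : K) : G) from rfl, extendByZero_coe]
          have h := hf ⟨x, hx⟩ (⟨y, hy⟩ : K)⁻¹
          rwa [inv_inv] at h
        · rw [if_neg hy]
          by_cases hm : y⁻¹ * x * y ∈ K
          · rw [show y⁻¹ * x * y = ((⟨_, hm⟩ : K) : G) from rfl, extendByZero_coe]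
            simp only [f]
            rw [if_neg]
            intro h
            rw [hq] at h
            refine hy ((hKmem y).2 ?_)
            have h' : (y : G ⧸ C)⁻¹ * (g : G ⧸ C) * (y : G ⧸ C) = (g : G ⧸ C) := by
              rw [← hxg, ← QuotientGroup.mk_inv, ← QuotientGroup.mk_mul, ← QuotientGroup.mk_mul]
              exact h.trans hxg.symm
            show (y : G ⧸ C) * (g : G ⧸ C) = (g : G ⧸ C) * (y : G ⧸ C)
            conv_lhs => rw [← h']
            group
          · exact extendByZero_of_notMem K f hm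
      rw [indFun, Finset.sum_congr rfl fun y _ => hterm y, Finset.sum_ite, Finset.sum_const_zero,
        add_zero, Finset.sum_const, nsmul_eq_mul, ← Fintype.card_subtype, ← Nat.card_eq_fintype_card,
        inv_mul_cancel_left₀ (Nat.cast_ne_zero.2 Nat.card_pos.ne')]
    refine ⟨indFun K f, isClassFunction_indFun K f, fun ψ hψ => ?_, fun x hx => ?_, (k₀ : G), ?_, ?_⟩
    · rw [frobenius_reciprocity K f (IsIrr.isClassFunction ψ.2), hfsum, classInner_sum_left]
      refine Finset.sum_eq_zero fun β _ => ?_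
      rw [classInner_smul_left]
      refine mul_eq_zero_of_right _ (by_contra fun hne => hψ ?_)
      let φ : IrrCharacter K := ⟨_, isIrr_twistBy hμ hres β⟩
      refine constituent_of_constituent hCK (φ := φ) ?_ ?_
      · rw [← classInner_conj_symm, ne_eq, map_eq_zero]
        exact hne
      · rw [← hinnerN]
        exact (classInner_twistBy_restrict μ _ hres).symm ▸ IsIrr.apply_one_ne_zero β.2
    · rw [indFun] at hx
      obtain ⟨y, -, hy⟩ := Finset.exists_ne_zero_of_sum_ne_zero (right_ne_zero_of_mul hx)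
      by_cases hm : y⁻¹ * x * y ∈ K
      · rw [show y⁻¹ * x * y = ((⟨_, hm⟩ : K) : G) from rfl, extendByZero_coe] at hy
        simp only [f, ne_eq, ite_eq_right_iff, not_forall] at hy
        obtain ⟨hyq, -⟩ := hy
        rw [hq] at hyq
        refine isConj_iff.2 ⟨(y : G ⧸ C)⁻¹, ?_⟩
        rw [inv_inv, ← hyq]
        rfl
      · exact absurd (extendByZero_of_notMem K f hm) hy
    · exact (hq k₀).1 hk₀q
    · rw [hF1 k₀ ((hq k₀).1 hk₀q) k₀.2]
      simp only [f, Subtype.coe_eta, if_pos hk₀q]
      exact hk₀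
  · obtain ⟨m, hm⟩ := IsChar.exists_sum (IsChar.restrict K (IsIrr.isCharacter χ.2))
    have htw : ∀ φ : IrrCharacter K, ∃ β : IrrCharacter (K ⧸ N),
        m φ ≠ 0 → (φ : K → ℂ) = twistBy μ (β : K ⧸ N → ℂ) := by
      intro φ
      by_cases h0 : m φ = 0
      · exact ⟨trivChar _, fun h => absurd h0 h⟩
      have h1 : classInner (fun k : K => (χ : G → ℂ) k) (φ : K → ℂ) ≠ 0 := by
        rw [hm, classInner_sum_irr]
        exact Nat.cast_ne_zero.2 h0
      have hres0 : resTo hCK (φ : K → ℂ) ≠ 0 := fun h => by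
        have := congrFun h 1
        exact IsIrr.apply_one_ne_zero φ.2 this
      obtain ⟨ψ, hψ⟩ := Clifford.exists_constituent
        (IsChar.isClassFunction (isCharacter_resTo hCK (IsIrr.isCharacter φ.2))) hres0
      have h2 := constituent_of_constituent hCK h1 hψ
      have hψθ : ψ = θ := by
        by_contra hne
        rw [restrict_eq_smul hinv hχ, classInner_smul_left,
          classInner_irr_of_ne (Ne.symm hne), mul_zero] at h2
        exact h2 rfl
      subst hψθ
      rw [← hinnerN] at hψ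
      obtain ⟨β, hβ⟩ := exists_eq_twistBy hμ hres φ hψ
      exact ⟨β, fun _ => hβ⟩
    choose β hβ using htw
    refine ⟨∑ φ : IrrCharacter K, (m φ : ℂ) * (β φ : K ⧸ N → ℂ) q₀,
      IsIntegral.sum _ fun φ _ => IsIntegral.mul (isIntegral_algebraMap (x := (m φ : ℤ)))
        (IsChar.isIntegral (IsIrr.isCharacter (β φ).2) _), ?_⟩
    set ξ := ∑ φ : IrrCharacter K, (m φ : ℂ) * (β φ : K ⧸ N → ℂ) q₀
    have hval : ∀ k : K, QuotientGroup.mk' N k = q₀ → (χ : G → ℂ) k = ξ * μ k := by
      intro k hk
      have h := congrFun hm k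
      simp only [Finset.sum_apply, Pi.smul_apply, smul_eq_mul] at h
      rw [h, Finset.sum_mul]
      refine Finset.sum_congr rfl fun φ _ => ?_
      by_cases h0 : m φ = 0
      · simp [h0]
      · rw [hβ φ h0, twistBy_apply, hk]
        ring
    have hmap : (Finset.univ.filter fun x : G => (x : G ⧸ C) = (g : G ⧸ C)) =
        (Finset.univ.filter fun k : K => QuotientGroup.mk' N k = q₀).map
          (Function.Embedding.subtype _) := by
      ext x
      simp only [Finset.mem_filter, Finset.mem_univ, true_and, Finset.mem_map,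
        Function.Embedding.coe_subtype]
      exact ⟨fun hx => ⟨⟨x, hmemK x hx⟩, (hq _).2 hx, rfl⟩,
        fun ⟨k, hk, hkx⟩ => hkx ▸ (hq k).1 hk⟩
    have hcard : Nat.card N = Nat.card C := Nat.card_congr e.toEquiv
    rw [hmap, Finset.sum_map, ← hcard, ← hnorm, Finset.sum_mul]
    refine Finset.sum_congr rfl fun k hk => ?_
    rw [Function.Embedding.coe_subtype, hval k (Finset.mem_filter.1 hk).2, map_mul]
    ring

end CfsgLib.Blocks.ThreeChars
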