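import Cfsg.Agent.Lib.Blocks.ThreeChars.Primes
import Cfsg.Agent.Lib.Recog.Huppert.Main
import Cfsg.Agent.Lib.Char.Burnside
import Cfsg.Agent.Lib.Blocks.GroupAlg
import Cfsg.Agent.Lib.Recog.NeumannTwin.Basic
import Mathlib.LinearAlgebra.Matrix.GeneralLinearGroup.Card

/-!
# Transitive linear groups in which the good elements form one class

`G` acts faithfully on the space `V` of odd characteristic, transitively on nonzero vectors.
The elements with cyclic centralizer other than `1` are all conjugate, and a centralizer of prime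
order `r` forces `r % 4 ≠ 3` and `|G| = r d²`. Then `|V| ≤ 3`.
-/

set_option autoImplicit false

namespace CfsgLib.Blocks.ThreeChars

open Subgroup CfsgLib.Recog.Huppert

variable {p : ℕ} [hp : Fact p.Prime] {V : Type*} [AddCommGroup V] [Module (ZMod p) V]
  [Finite V] [Nontrivial V] {G : Type*} [Group G] [Finite G] {ρ : G →* (V ≃ₗ[ZMod p] V)}

/-- The hypotheses. -/
structure Good (ρ : G →* (V ≃ₗ[ZMod p] V)) : Prop where
  inj : Function.Injective ρ
  trans : ∀ v w : V, v ≠ 0 → w ≠ 0 → ∃ g : G, ρ g v = w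
  conj : ∀ g g' : G, g ≠ 1 → g' ≠ 1 → IsCyclic (centralizer ({g} : Set G)) →
    IsCyclic (centralizer ({g'} : Set G)) → IsConj g g'
  prime : ∀ (g : G) (r : ℕ), g ≠ 1 → r.Prime → Nat.card (centralizer ({g} : Set G)) = r →
    r % 4 ≠ 3 ∧ ∃ d : ℕ, Nat.card G = r * d ^ 2

omit hp [Finite V] [Nontrivial V] [Module (ZMod p) V] [AddCommGroup V] [Finite G] in
theorem centralizer_singleton (x : G) :
    centralizer ({x} : Set G) = centralizer (zpowers x : Set G) := by
  rw [zpowers_eq_closure, centralizer_closure]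

/-- The centralizer of an irreducible element is cyclic. -/
theorem isCyclic_centralizer (hρ : Function.Injective ρ) {y : G} (hy : Irred ρ (zpowers y)) :
    IsCyclic (centralizer ({y} : Set G)) := by
  rw [centralizer_singleton]
  have hA := zpowers_comm y
  have hF := isFld_of_irred ρ hA hy
  have hfull := full_of_irred ρ hA hy
  let _ : Field (adj ρ (zpowers y)) := (isField_adj ρ hA hF).toField
  let f : centralizer (zpowers y : Set G) →* adj ρ (zpowers y) :=
    { toFun := fun g => ⟨T ρ g, mem_adj_of_full ρ hA hF hfull g.2⟩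
      map_one' := Subtype.ext (T_one ρ)
      map_mul' := fun g h => Subtype.ext (T_mul ρ g h) }
  exact isCyclic_of_subgroup_isDomain f fun g h e =>
    Subtype.ext (T_injective ρ hρ (congrArg Subtype.val e))

/-- The centralizer of an irreducible element is generated by it. -/
theorem Good.card_centralizer (hg : Good ρ) {y : G} (hy1 : y ≠ 1) (hy : Irred ρ (zpowers y)) :
    Nat.card (centralizer ({y} : Set G)) = orderOf y := by
  have hc := isCyclic_centralizer hg.inj hy
  obtain ⟨τ, hτ⟩ := hc.exists_generator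
  have hyC : y ∈ centralizer ({y} : Set G) := mem_centralizer_singleton_iff.2 rfl
  have hle : zpowers y ≤ zpowers (τ : G) := by
    rw [zpowers_le]
    obtain ⟨i, hi⟩ := mem_zpowers_iff.1 (hτ ⟨y, hyC⟩)
    exact mem_zpowers_iff.2 ⟨i, by rw [← Subgroup.coe_zpow, hi]⟩
  have hτi : Irred ρ (zpowers (τ : G)) := Irred.mono ρ hy hle
  have hτ1 : (τ : G) ≠ 1 := fun h => hy1 (by
    have := hle (mem_zpowers y)
    rwa [h, zpowers_one_eq_bot, mem_bot] at this)
  obtain ⟨x, hx⟩ := isConj_iff.1 (hg.conj y τ hy1 hτ1 hc (isCyclic_centralizer hg.inj hτi))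
  have ho : orderOf (τ : G) = orderOf y := by
    rw [← hx, show x * y * x⁻¹ = MulAut.conj x y from rfl, MulEquiv.orderOf_eq]
  rw [← ho, Subgroup.orderOf_coe, orderOf_eq_card_of_forall_mem_zpowers hτ]

/-- A line is spanned by one vector. -/
theorem dim_one (hg : Good ρ) (h1 : Module.finrank (ZMod p) V = 1) : Nat.card V ≤ 3 := by
  classical
  obtain ⟨v, hv⟩ := exists_ne (0 : V)
  have hsm := (finrank_eq_one_iff_of_nonzero' v hv).1 h1
  have hcomm : ∀ g h : G, g * h = h * g := by
    intro g h
    refine hg.inj (LinearEquiv.ext fun w => ?_)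
    obtain ⟨c, rfl⟩ := hsm w
    obtain ⟨a, ha⟩ := hsm (ρ g v)
    obtain ⟨b, hb⟩ := hsm (ρ h v)
    simp only [map_mul, LinearEquiv.mul_apply, map_smul, ← ha, ← hb, smul_smul]
    congr 1
    ring
  have hirr : ∀ y : G, Irred ρ (zpowers y) := fun y W _ => by
    have := Submodule.finrank_le W
    rcases Nat.eq_zero_or_pos (Module.finrank (ZMod p) W) with h | h
    · exact Or.inl (Submodule.finrank_eq_zero.1 h)
    · exact Or.inr (Submodule.eq_top_of_finrank_eq (by omega))
  have huniq : ∀ g h : G, g ≠ 1 → h ≠ 1 → g = h := by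
    intro g h hg1 hh1
    obtain ⟨x, hx⟩ := isConj_iff.1 (hg.conj g h hg1 hh1 (isCyclic_centralizer hg.inj (hirr g))
      (isCyclic_centralizer hg.inj (hirr h)))
    rw [← hx, hcomm x g, mul_inv_cancel_right]
  have hcard : Nat.card G ≤ 2 := by
    by_contra hc
    have := Fintype.ofFinite G
    obtain ⟨g, hg1⟩ := Fintype.exists_ne_of_one_lt_card
      (by rw [← Nat.card_eq_fintype_card]; omega) (1 : G)
    obtain ⟨h, hh, hhg⟩ : ∃ h : G, h ≠ 1 ∧ h ≠ g := by
      by_contra! hno
      have hsub : (Finset.univ : Finset G) ⊆ {1, g} := fun x _ => by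
        by_cases hx : x = 1
        · simp [hx]
        · simp [hno x hx]
      have := (Finset.card_le_card hsub).trans (Finset.card_le_two)
      rw [Finset.card_univ, ← Nat.card_eq_fintype_card] at this
      omega
    exact hhg (huniq h g hh hg1)
  have h2 := Nat.le_of_dvd Nat.card_pos (pow_sub_one_dvd_card hg.trans)
  rw [Module.natCard_eq_pow_finrank (K := ZMod p), Nat.card_zmod, h1]
  rw [h1] at h2
  omega

/-- The action on lines. -/
@[reducible] def lineAction (ρ : G →* (V ≃ₗ[ZMod p] V)) :
    MulAction G {W : Submodule (ZMod p) V // Module.finrank (ZMod p) W = 1} where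
  smul g W := ⟨W.1.map (ρ g).toLinearMap, by rw [LinearEquiv.finrank_map_eq]; exact W.2⟩
  one_smul W := Subtype.ext (by
    show W.1.map (ρ 1).toLinearMap = W.1
    rw [map_one]
    exact Submodule.map_id _)
  mul_smul g h W := Subtype.ext (by
    show W.1.map (ρ (g * h)).toLinearMap =
      (W.1.map (ρ h).toLinearMap).map (ρ g).toLinearMap
    rw [map_mul, ← Submodule.map_comp]
    rfl)

/-- An element with an invariant line fixes a second line. -/
theorem exists_two_fixed {y : G} (hy : (orderOf y : ZMod p) ≠ 0)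
    (h2 : Module.finrank (ZMod p) V = 2) (hne : ¬ Irred ρ (zpowers y)) :
    ∃ W W' : Submodule (ZMod p) V, W ≠ W' ∧
      (Module.finrank (ZMod p) W = 1 ∧ W.map (ρ y).toLinearMap = W) ∧
      (Module.finrank (ZMod p) W' = 1 ∧ W'.map (ρ y).toLinearMap = W') := by
  unfold Irred at hne
  push Not at hne
  obtain ⟨W, hWi, hWb, hWt⟩ := hne
  have hW1 : Module.finrank (ZMod p) W = 1 := by
    have h0 : Module.finrank (ZMod p) W ≠ 0 := fun e => hWb (Submodule.finrank_eq_zero.1 e)
    have := Submodule.finrank_lt hWt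
    omega
  have hmap : ∀ U : Submodule (ZMod p) V, (∀ v ∈ U, ρ y v ∈ U) →
      U.map (ρ y).toLinearMap = U := fun U hU => by
    refine Submodule.eq_of_le_of_finrank_eq ?_ (LinearEquiv.finrank_map_eq _ _)
    rintro _ ⟨v, hv, rfl⟩
    exact hU v hv
  obtain ⟨v, hv, hv0⟩ := Submodule.exists_mem_ne_zero_of_ne_bot hWb
  obtain ⟨c, hc⟩ := (finrank_eq_one_iff_of_nonzero' (⟨v, hv⟩ : W) (fun e => hv0 (congrArg Subtype.val e))).1
    hW1 ⟨ρ y v, hWi y (mem_zpowers y) v hv⟩
  replace hc : c • v = ρ y v := congrArg Subtype.val hc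
  let S : V →ₗ[ZMod p] V := (ρ y).toLinearMap - c • LinearMap.id
  have hS : ∀ w, S w = ρ y w - c • w := fun w => rfl
  have hSv : S v = 0 := by rw [hS, hc, sub_self]
  by_cases hS0 : S = 0
  · obtain ⟨w, hw⟩ : ∃ w, w ∉ W := by
      by_contra! h
      exact hWt (eq_top_iff.2 fun w _ => h w)
    have hw0 : w ≠ 0 := fun e => hw (e ▸ W.zero_mem)
    refine ⟨W, (ZMod p) ∙ w, fun e => hw (e ▸ Submodule.mem_span_singleton_self w),
      ⟨hW1, hmap W fun u hu => hWi y (mem_zpowers y) u hu⟩, finrank_span_singleton hw0,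
      hmap _ fun u hu => ?_⟩
    have := LinearMap.congr_fun hS0 u
    rw [hS, LinearMap.zero_apply, sub_eq_zero] at this
    rw [this]
    exact Submodule.smul_mem _ _ hu
  · refine ⟨W, LinearMap.range S, fun e => hS0 ?_,
      ⟨hW1, hmap W fun u hu => hWi y (mem_zpowers y) u hu⟩, ?_, hmap _ ?_⟩
    · -- then `S` is nilpotent
      have hSS : ∀ u, S (S u) = 0 := by
        intro u
        have hu : S u ∈ W := e ▸ LinearMap.mem_range_self S u
        obtain ⟨a, ha⟩ := (finrank_eq_one_iff_of_nonzero' (⟨v, hv⟩ : W)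
          (fun e => hv0 (congrArg Subtype.val e))).1 hW1 ⟨S u, hu⟩
        rw [show S u = a • v from (congrArg Subtype.val ha).symm, map_smul, hSv, smul_zero]
      have hpow : ∀ (i : ℕ) (u : V),
          ρ (y ^ (i + 1)) u = c ^ (i + 1) • u + ((i + 1 : ℕ) * c ^ i : ZMod p) • S u := by
        intro i
        induction i with
        | zero => intro u; simp [hS]
        | succ i ih =>
          intro u
          have e1 : ρ y u = c • u + S u := by rw [hS]; abel
          rw [pow_succ y (i + 1), map_mul, LinearEquiv.mul_apply, ih, e1, map_add, hSS, map_smul]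
          simp only [smul_add, smul_smul, add_zero, add_assoc, ← add_smul]
          congr 2
          · ring
          · push_cast; ring
      obtain ⟨i, hi⟩ : ∃ i, orderOf y = i + 1 := ⟨orderOf y - 1, by have := orderOf_pos y; omega⟩
      have hone := fun u => hpow i u
      simp only [← hi, pow_orderOf_eq_one, map_one, LinearEquiv.coe_one, id] at hone
      have hcv := hone v
      rw [hSv, smul_zero, add_zero] at hcv
      have hco : c ^ orderOf y = 1 := by
        by_contra hne1
        have : (c ^ orderOf y - 1) • v = 0 := by rw [sub_smul, one_smul, ← hcv, sub_self]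
        exact hv0 ((smul_eq_zero.1 this).resolve_left (sub_ne_zero.2 hne1))
      have hc0 : c ≠ 0 := fun e0 => by
        rw [e0, zero_smul] at hc
        exact hv0 ((LinearEquiv.map_eq_zero_iff _).1 hc.symm)
      refine LinearMap.ext fun u => ?_
      have := hone u
      rw [hco, one_smul, left_eq_add, smul_eq_zero] at this
      exact this.resolve_left (mul_ne_zero hy (pow_ne_zero _ hc0))
    · have h1 := LinearMap.finrank_range_add_finrank_ker S
      have h3 : Module.finrank (ZMod p) (LinearMap.ker S) ≠ 0 := fun e => hv0 (by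
        have := (Submodule.finrank_eq_zero.1 e) ▸ (LinearMap.mem_ker.2 hSv)
        exact (Submodule.mem_bot _).1 this)
      have h4 : Module.finrank (ZMod p) (LinearMap.range S) ≠ 0 := fun e =>
        hS0 (LinearMap.range_eq_bot.1 (Submodule.finrank_eq_zero.1 e))
      omega
    · rintro _ ⟨u, rfl⟩
      exact ⟨ρ y u, by rw [hS, hS, map_sub, map_smul]⟩

/-- Dimension two does not occur. -/
theorem dim_two (hg : Good ρ) (hpG : ¬ p ∣ Nat.card G) (h2 : Module.finrank (ZMod p) V = 2) :
    False := by
  classical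
  let L := {W : Submodule (ZMod p) V // Module.finrank (ZMod p) W = 1}
  let _ : MulAction G L := lineAction ρ
  have : Finite (Submodule (ZMod p) V) :=
    Finite.of_injective (fun W => (W : Set V)) SetLike.coe_injective
  have := Fintype.ofFinite L
  have := Fintype.ofFinite G
  have hfix : ∀ g : G, ∀ W : L, W ∈ MulAction.fixedBy L g ↔ W.1.map (ρ g).toLinearMap = W.1 :=
    fun g W => by rw [MulAction.mem_fixedBy, Subtype.ext_iff]; rfl
  obtain ⟨v, hv⟩ := exists_ne (0 : V)
  have hline : ∀ W : L, ∃ u : V, u ≠ 0 ∧ W.1 = (ZMod p) ∙ u := fun W => by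
    have hb : W.1 ≠ ⊥ := fun e => by
      have h := W.2
      rw [e, finrank_bot] at h
      omega
    obtain ⟨u, hu, hu0⟩ := Submodule.exists_mem_ne_zero_of_ne_bot hb
    refine ⟨u, hu0, (Submodule.eq_of_le_of_finrank_eq ((Submodule.span_singleton_le_iff_mem _ _).2 hu)
      (by rw [finrank_span_singleton hu0, W.2])).symm⟩
  -- transitive on lines
  have htrans : ∀ W W' : L, ∃ g : G, g • W = W' := by
    intro W W'
    obtain ⟨u, hu, he⟩ := hline W
    obtain ⟨u', hu', he'⟩ := hline W'
    obtain ⟨g, hgu⟩ := hg.trans u u' hu hu'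
    refine ⟨g, Subtype.ext ?_⟩
    show W.1.map (ρ g).toLinearMap = W'.1
    rw [he, he', Submodule.map_span, Set.image_singleton]
    exact congrArg (fun x => (ZMod p) ∙ x) hgu
  -- three lines
  obtain ⟨w, hw⟩ : ∃ w, w ∉ (ZMod p) ∙ v := by
    by_contra! h
    have e : (ZMod p) ∙ v = ⊤ := eq_top_iff.2 fun w _ => h w
    have h1 := finrank_span_singleton (K := ZMod p) hv
    rw [e, finrank_top] at h1
    omega
  have hw0 : w ≠ 0 := fun e => hw (e ▸ Submodule.zero_mem _)
  have hvw0 : v + w ≠ 0 := fun e => hw (by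
    rw [eq_neg_of_add_eq_zero_right e]
    exact Submodule.neg_mem _ (Submodule.mem_span_singleton_self v))
  have h3 : 3 ≤ Fintype.card L := by
    let a : L := ⟨_, finrank_span_singleton hv⟩
    let b : L := ⟨_, finrank_span_singleton hw0⟩
    let c : L := ⟨_, finrank_span_singleton hvw0⟩
    have hab : a ≠ b := fun e => hw (by
      have e' : (ZMod p) ∙ v = (ZMod p) ∙ w := congrArg Subtype.val e
      exact e' ▸ Submodule.mem_span_singleton_self w)
    have hac : a ≠ c := fun e => hw (by
      have e' : (ZMod p) ∙ v = (ZMod p) ∙ (v + w) := congrArg Subtype.val e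
      have h := e' ▸ Submodule.mem_span_singleton_self (v + w)
      simpa using Submodule.sub_mem _ h (Submodule.mem_span_singleton_self v))
    have hbc : b ≠ c := fun e => by
      have e' : (ZMod p) ∙ w = (ZMod p) ∙ (v + w) := congrArg Subtype.val e
      have h := e' ▸ Submodule.mem_span_singleton_self (v + w)
      have hvW : v ∈ (ZMod p) ∙ w := by
        simpa using Submodule.sub_mem _ h (Submodule.mem_span_singleton_self w)
      obtain ⟨t, ht⟩ := Submodule.mem_span_singleton.1 hvW
      refine hw (Submodule.mem_span_singleton.2 ⟨t⁻¹, ?_⟩)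
      rw [← ht, smul_smul, inv_mul_cancel₀ (fun e0 => hv (by rw [← ht, e0, zero_smul])), one_smul]
    calc 3 = ({a, b, c} : Finset L).card := by simp [hab, hac, hbc]
      _ ≤ _ := Finset.card_le_univ _
  -- Burnside's count
  have hne : Nonempty L := ⟨⟨_, finrank_span_singleton hv⟩⟩
  have : Fintype (Quotient (MulAction.orbitRel G L)) := Fintype.ofFinite _
  have horb : Fintype.card (Quotient (MulAction.orbitRel G L)) = 1 := by
    rw [Fintype.card_eq_one_iff]
    refine ⟨Quotient.mk'' hne.some, fun q => ?_⟩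
    induction q using Quotient.inductionOn' with
    | h x =>
      refine Quotient.sound' ?_
      exact MulAction.orbitRel_apply.2 (htrans hne.some x)
  have hsum := MulAction.sum_card_fixedBy_eq_card_orbits_mul_card_group G L
  rw [horb, one_mul] at hsum
  let I : Finset G := Finset.univ.filter fun y => y ≠ 1 ∧ Irred ρ (zpowers y)
  let R : Finset G := Finset.univ.filter fun y => y ≠ 1 ∧ ¬ Irred ρ (zpowers y)
  have hcardG : Fintype.card G = 1 + I.card + R.card := by
    have h1 := Finset.card_filter_add_card_filter_not (s := (Finset.univ : Finset G))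
      (fun y : G => y = 1)
    have h2 := Finset.card_filter_add_card_filter_not
      (s := Finset.univ.filter fun y : G => ¬ y = 1) (fun y : G => Irred ρ (zpowers y))
    rw [Finset.filter_filter, Finset.filter_filter] at h2
    have h3 : (Finset.univ.filter fun y : G => y = 1).card = 1 :=
      Finset.card_eq_one.2 ⟨1, by ext; simp⟩
    rw [h3, Finset.card_univ, ← h2] at h1
    simp only [I, R, ne_eq]
    omega
  have hR : ∀ y ∈ R, 2 ≤ Fintype.card (MulAction.fixedBy L y) := by
    intro y hy
    have hy' := (Finset.mem_filter.1 hy).2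
    obtain ⟨W, W', hne', hW, hW'⟩ := exists_two_fixed (ρ := ρ) (y := y) (fun e => hpG
      (((ZMod.natCast_eq_zero_iff _ _).1 e).trans (orderOf_dvd_natCard y))) h2 hy'.2
    have a : MulAction.fixedBy L y := ⟨⟨W, hW.1⟩, (hfix y _).2 hW.2⟩
    rw [Nat.succ_le_iff, Fintype.one_lt_card_iff]
    exact ⟨⟨⟨W, hW.1⟩, (hfix y _).2 hW.2⟩, ⟨⟨W', hW'.1⟩, (hfix y _).2 hW'.2⟩,
      fun e => hne' (congrArg (fun x : MulAction.fixedBy L y => x.1.1) e)⟩
  have hlow : 3 + 2 * R.card ≤ Fintype.card G := by
    rw [← hsum]
    have h1R : (1 : G) ∉ R := by simp [R]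
    refine le_trans ?_ (Finset.sum_le_sum_of_subset (Finset.subset_univ (insert 1 R)))
    rw [Finset.sum_insert h1R]
    refine add_le_add ?_ ?_
    · refine h3.trans (le_of_eq (Fintype.card_congr (Equiv.subtypeUnivEquiv fun W => ?_).symm))
      exact one_smul G W
    · rw [mul_comm]
      simpa using Finset.card_nsmul_le_sum R _ 2 hR
  have hI : 2 * I.card ≤ Fintype.card G := by
    rcases I.eq_empty_or_nonempty with h | ⟨y, hy⟩
    · simp [h]
    obtain ⟨hy1, hyi⟩ := (Finset.mem_filter.1 hy).2
    have hsub : I ⊆ Finset.univ.filter (IsConj y) := fun z hz => by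
      obtain ⟨hz1, hzi⟩ := (Finset.mem_filter.1 hz).2
      exact Finset.mem_filter.2 ⟨Finset.mem_univ _, hg.conj y z hy1 hz1
        (isCyclic_centralizer hg.inj hyi) (isCyclic_centralizer hg.inj hzi)⟩
    have hidx := (centralizer ({y} : Set G)).card_mul_index
    rw [hg.card_centralizer hy1 hyi, Nat.card_eq_fintype_card] at hidx
    have hcl : (Finset.univ.filter (IsConj y)).card = (centralizer ({y} : Set G)).index := by
      rw [← Fintype.card_subtype, ← Nat.card_eq_fintype_card,
        CfsgLib.Blocks.card_isConj_eq_index]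
    have ho : 2 ≤ orderOf y := by
      have := orderOf_pos y
      have : orderOf y ≠ 1 := fun e => hy1 (orderOf_eq_one_iff.1 e)
      omega
    calc 2 * I.card ≤ orderOf y * (centralizer ({y} : Set G)).index :=
          Nat.mul_le_mul ho (hcl ▸ Finset.card_le_card hsub)
      _ = _ := hidx
  omega

end CfsgLib.Blocks.ThreeChars
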