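import Cfsg.Agent.Lib.Blocks.ThreeChars.Linear

/-!
# Transitive linear groups in which the good elements form one class: the bound

A primitive prime divisor is `n + 1`, so only `3 ^ 4` is left, where the group would be solvable
of order `5 * 2 ^ i`.
-/

set_option autoImplicit false

namespace CfsgLib.Blocks.ThreeChars

open Subgroup CfsgLib.Recog.Huppert

variable {p : ℕ} [hp : Fact p.Prime] {V : Type*} [AddCommGroup V] [Module (ZMod p) V]
  [Finite V] [Nontrivial V] {G : Type*} [Group G] [Finite G] {ρ : G →* (V ≃ₗ[ZMod p] V)}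

/-- The facts about a primitive prime divisor. -/
theorem Good.ppd_spec (hg : Good ρ) (hn : 3 ≤ Module.finrank (ZMod p) V) {r : ℕ} (hr : r.Prime)
    (hd : r ∣ p ^ Module.finrank (ZMod p) V - 1)
    (hk : ∀ j, 0 < j → j < Module.finrank (ZMod p) V → ¬ r ∣ p ^ j - 1) :
    r = Module.finrank (ZMod p) V + 1 ∧ ¬ r ^ 2 ∣ Nat.card G ∧
      ∃ g : G, orderOf g = r ∧ Irred ρ (zpowers g) ∧ Nat.card (centralizer ({g} : Set G)) = r := by
  classical
  have := Fact.mk hr
  have hlt : Module.finrank (ZMod p) V < r := ppd_lt hp.out (by omega) hr hd hk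
  have hcard : ∀ g : G, orderOf g = r → Irred ρ (zpowers g) ∧
      Nat.card (centralizer ({g} : Set G)) = r := fun g hgo => by
    have hi := irred_of_ppd (ρ := ρ) hg.inj hr hd hk hgo
    exact ⟨hi, (hg.card_centralizer (fun e => hr.ne_one (by rw [← hgo, e, orderOf_one])) hi).trans hgo⟩
  obtain ⟨g, hgo⟩ := exists_prime_orderOf_dvd_card' r (hd.trans (pow_sub_one_dvd_card hg.trans))
  obtain ⟨hgi, hgc⟩ := hcard g hgo
  have hg1 : g ≠ 1 := fun e => hr.ne_one (by rw [← hgo, e, orderOf_one])
  refine ⟨?_, ?_, g, hgo, hgi, hgc⟩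
  · -- all generators of `zpowers g` are conjugate
    have hconj : ∀ i : ℕ, 0 < i → i < r → ∃ x ∈ normalizer (zpowers g : Set G),
        x * g * x⁻¹ = g ^ i := by
      intro i hi hir
      have hgi' : orderOf (g ^ i) = r := by
        rw [orderOf_pow' _ hi.ne', hgo,
          (hr.coprime_iff_not_dvd.2 fun h => absurd (Nat.le_of_dvd hi h) (by omega)).gcd_eq_one,
          Nat.div_one]
      have h1 : g ^ i ≠ 1 := fun e => hr.ne_one (by rw [← hgi', e, orderOf_one])
      obtain ⟨x, hx⟩ := isConj_iff.1 (hg.conj g (g ^ i) hg1 h1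
        (isCyclic_centralizer hg.inj hgi) (isCyclic_centralizer hg.inj (hcard _ hgi').1))
      refine ⟨x, mem_normalizer_iff_map_conj_eq.2 ?_, hx⟩
      rw [MonoidHom.map_zpowers]
      refine eq_of_le_of_card_ge ?_ ?_
      · rw [zpowers_le]
        show x * g * x⁻¹ ∈ zpowers g
        rw [hx]
        exact pow_mem (mem_zpowers g) i
      · rw [Nat.card_zpowers, Nat.card_zpowers]
        exact ((MulAut.conj x).orderOf_eq g).ge
    choose x hxN hxg using hconj
    set N := normalizer (zpowers g : Set G) with hN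
    let ρ' := ρ.comp N.subtype
    have hρ' : Function.Injective ρ' := hg.inj.comp N.subtype_injective
    let A := (zpowers g).subgroupOf N
    have hAn : A.Normal := (normal_subgroupOf_iff_le_normalizer le_normalizer).2 le_rfl
    have hA : A ≤ centralizer (A : Set N) := fun a ha => mem_centralizer_iff.2 fun b hb =>
      Subtype.ext (mem_centralizer_iff.1 (zpowers_comm g ha) (b : G) hb)
    have hAi : Irred ρ' A := fun W hW =>
      hgi W fun a ha v hv => hW ⟨a, le_normalizer ha⟩ ha v hv
    have hfin := finrank_adj_of_full ρ' (full_of_irred ρ' hA hAi)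
    have hF := isFld_of_irred ρ' hA hAi
    let gA : adj ρ' A := ⟨T ρ' ⟨g, le_normalizer (mem_zpowers g)⟩, T_mem ρ' (mem_zpowers g)⟩
    let Φ : Fin (r - 1) → (gal ρ' hAn).range := fun i =>
      ⟨gal ρ' hAn ⟨x (i + 1) (Nat.succ_pos _) (by omega), hxN _ _ _⟩, _, rfl⟩
    have hΦ : Function.Injective Φ := by
      intro i j e
      have h := congrArg Subtype.val (AlgEquiv.congr_fun (congrArg Subtype.val e) gA)
      simp only [Φ, gA, coe_gal, cj_T] at h
      have h' := congrArg Subtype.val (T_injective ρ' hρ' h)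
      simp only [Subgroup.coe_mul, Subgroup.coe_inv, hxg] at h'
      have := pow_injOn_Iio_orderOf (x := g) (show (i : ℕ) + 1 ∈ Set.Iio (orderOf g) by
        rw [Set.mem_Iio, hgo]; omega) (show (j : ℕ) + 1 ∈ Set.Iio (orderOf g) by
        rw [Set.mem_Iio, hgo]; omega) h'
      exact Fin.ext (by omega)
    have : Finite (adj ρ' A ≃ₐ[ZMod p] adj ρ' A) := Finite.of_injective _ DFunLike.coe_injective
    have hle := Nat.card_le_card_of_injective Φ hΦ
    rw [Nat.card_fin] at hle
    have hdvd := card_gal_dvd ρ' hA hF hAn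
    rw [hfin] at hdvd
    have := Nat.le_of_dvd (by omega) hdvd
    omega
  · intro h2
    obtain ⟨S⟩ : Nonempty (Sylow r G) := inferInstance
    have hS : r ^ 2 ∣ Nat.card S := by
      rw [S.card_eq_multiplicity]
      exact pow_dvd_pow r ((hr.pow_dvd_iff_le_factorization Nat.card_pos.ne').1 h2)
    have : Nontrivial (S : Subgroup G) := Finite.one_lt_card_iff_nontrivial.1
      (lt_of_lt_of_le (by nlinarith [hr.two_le]) (Nat.le_of_dvd Nat.card_pos hS))
    have := S.2.center_nontrivial
    obtain ⟨k, hk'⟩ := (S.2.to_subgroup (center (S : Subgroup G))).exists_card_eq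
    have hk0 : k ≠ 0 := fun e => by
      have := Finite.one_lt_card (α := center (S : Subgroup G))
      rw [hk', e, pow_zero] at this
      omega
    obtain ⟨z, hz⟩ := exists_prime_orderOf_dvd_card' (G := center (S : Subgroup G)) r
      (hk' ▸ dvd_pow_self r hk0)
    have hzo : orderOf ((z : (S : Subgroup G)) : G) = r := by
      rw [Subgroup.orderOf_coe, Subgroup.orderOf_coe, hz]
    have hle : (S : Subgroup G) ≤ centralizer ({((z : (S : Subgroup G)) : G)} : Set G) := fun s hs =>
      mem_centralizer_singleton_iff.2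
        (congrArg Subtype.val (mem_center_iff.1 z.2 ⟨s, hs⟩) : s * _ = _)
    have h3 := hS.trans (card_dvd_of_le hle)
    rw [(hcard _ hzo).2] at h3
    have := Nat.le_of_dvd hr.pos h3
    nlinarith [hr.two_le]

/-- The general linear group bounds the order. -/
theorem card_dvd_gl (hρ : Function.Injective ρ) :
    Nat.card G ∣ ∏ i : Fin (Module.finrank (ZMod p) V),
      (p ^ Module.finrank (ZMod p) V - p ^ (i : ℕ)) := by
  have b := Module.finBasis (ZMod p) V
  let e : (V ≃ₗ[ZMod p] V) ≃* GL (Fin (Module.finrank (ZMod p) V)) (ZMod p) :=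
    (LinearMap.GeneralLinearGroup.generalLinearEquiv (ZMod p) V).symm.trans
      (Units.mapEquiv (LinearMap.toMatrixAlgEquiv b).toMulEquiv)
  have h := Subgroup.card_dvd_of_injective (e.toMonoidHom.comp ρ) (e.injective.comp hρ)
  rwa [Matrix.card_GL_field, ZMod.card] at h

/-- `3 ^ 4` does not occur. -/
theorem not_three_four (hg : Good ρ) (hpG : ¬ p ∣ Nat.card G) (hp3 : p = 3)
    (hn : Module.finrank (ZMod p) V = 4) : False := by
  classical
  have h80 : 80 ∣ Nat.card G := by
    have := pow_sub_one_dvd_card hg.trans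
    rw [hn, hp3] at this
    exact this
  obtain ⟨-, h25, g, hgo, hgi, hgc⟩ := hg.ppd_spec (r := 5) (by omega) (by norm_num)
    (by rw [hn, hp3]; norm_num) (by
      intro j hj hjn
      rw [hn] at hjn
      rw [hp3]
      interval_cases j <;> norm_num)
  have hg1 : g ≠ 1 := fun e => by rw [e, orderOf_one] at hgo; norm_num at hgo
  obtain ⟨-, d, hd⟩ := hg.prime g 5 hg1 (by norm_num) hgc
  have hgl := card_dvd_gl (ρ := ρ) hg.inj
  rw [hn, hp3, Fin.prod_univ_four] at hgl
  norm_num at hgl
  rw [hd] at hgl hpG h80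
  subst hp3
  have hd3 : Nat.Coprime (d ^ 2) (3 ^ 6) := by
    refine Nat.Coprime.pow _ _ ((Nat.Prime.coprime_iff_not_dvd (by norm_num)).2 ?_).symm
    exact fun h => hpG (dvd_mul_of_dvd_right (dvd_pow h two_ne_zero) _)
  have hd' : d ^ 2 ∣ 2 ^ 9 * 13 := hd3.dvd_of_dvd_mul_right
    (Nat.dvd_of_mul_dvd_mul_left (show 0 < 5 by norm_num)
      (show 5 * d ^ 2 ∣ 5 * (2 ^ 9 * 13 * 3 ^ 6) by norm_num; exact hgl))
  have hd0 : d ≠ 0 := fun e => by rw [e] at hd; simp [Nat.card_pos.ne'] at hd
  obtain ⟨m, rfl⟩ : ∃ m, d = 2 ^ m := ⟨_, Nat.eq_prime_pow_of_unique_prime_dvd hd0 fun {s} hs hsd => by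
    have h2 : s ^ 2 ∣ 2 ^ 9 * 13 := (pow_dvd_pow_of_dvd hsd 2).trans hd'
    by_contra hne
    have hc : Nat.Coprime (s ^ 2) (2 ^ 9) :=
      Nat.Coprime.pow _ _ ((Nat.coprime_primes hs Nat.prime_two).2 hne)
    have h13 : s ^ 2 ∣ 13 := hc.dvd_of_dvd_mul_left h2
    have := (Nat.prime_dvd_prime_iff_eq hs (by norm_num)).1 ((dvd_pow_self s two_ne_zero).trans h13)
    subst this
    norm_num at h13⟩
  have : Group.IsSolvable G := CfsgLib.Burnside.isSolvable_of_card_eq (p := 5) (q := 2) (a := 1)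
    (b := m * 2) (by norm_num) Nat.prime_two (by rw [hd, pow_one, ← pow_mul])
  have h80' : 80 ≤ Nat.card G := Nat.le_of_dvd Nat.card_pos (hd.symm ▸ h80)
  have : Nontrivial G := Finite.one_lt_card_iff_nontrivial.1 (by omega)
  obtain ⟨A, hAn, hAb, hAc⟩ := CfsgLib.Recog.NeumannTwin.exists_abelian_normal (G := G)
  have hA : A ≤ centralizer (A : Set G) := fun a ha => mem_centralizer_iff.2 fun b hb => hAc b hb a ha
  have hF := isFld_of_transitive ρ hA hAn hg.trans
  obtain ⟨v, hv⟩ := exists_ne (0 : V)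
  have hle4 : Module.finrank (ZMod 3) (adj ρ A) ≤ 4 :=
    hn ▸ LinearMap.finrank_le_finrank_of_injective (ev_injective ρ hF hv)
  have hpos : 0 < Module.finrank (ZMod 3) (adj ρ A) := by
    have : Nontrivial (adj ρ A) := ⟨⟨1, 0, one_ne_zero_adj ρ⟩⟩
    exact Module.finrank_pos
  have hgA : g ∈ centralizer (A : Set G) := mem_centralizer_of_coprime ρ hg.inj hA hF hAn (by
    rw [hgo]
    exact (Nat.Prime.coprime_iff_not_dvd (by norm_num)).2 fun h => by
      have := Nat.le_of_dvd hpos h
      omega)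
  have hAC : A ≤ centralizer ({g} : Set G) := fun a ha =>
    mem_centralizer_singleton_iff.2 (mem_centralizer_iff.1 hgA a ha)
  have hCz : centralizer ({g} : Set G) = zpowers g :=
    (eq_of_le_of_card_ge (zpowers_le.2 (mem_centralizer_singleton_iff.2 rfl))
      (by rw [hgc, Nat.card_zpowers, hgo])).symm
  rw [hCz] at hAC
  have hAeq : A = zpowers g := by
    refine eq_of_le_of_card_ge hAC ?_
    have h := Subgroup.card_dvd_of_le hAC
    rw [Nat.card_zpowers, hgo] at h
    rcases (Nat.dvd_prime (by norm_num)).1 h with h | h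
    · exact absurd (eq_bot_of_card_eq A h) hAb
    · rw [h, Nat.card_zpowers, hgo]
  subst hAeq
  have hidx := index_centralizer_dvd ρ hg.inj hA hF hAn
  have h1 := (centralizer (zpowers g : Set G)).card_mul_index
  rw [← centralizer_singleton, hgc] at h1
  rw [← centralizer_singleton] at hidx
  have := Nat.le_of_dvd hpos hidx
  omega

/-- The space has at most three elements. -/
theorem card_le_three (hg : Good ρ) (hp2 : p ≠ 2) (hpG : ¬ p ∣ Nat.card G) : Nat.card V ≤ 3 := by
  have hp3 : 3 ≤ p := by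
    have := hp.out.two_le
    omega
  have hn0 : 0 < Module.finrank (ZMod p) V := Module.finrank_pos
  obtain ⟨n, hn⟩ : ∃ n, Module.finrank (ZMod p) V = n := ⟨_, rfl⟩
  rcases (show n = 1 ∨ n = 2 ∨ 3 ≤ n by omega) with h | h | h
  · exact dim_one hg (hn.trans h)
  · exact (dim_two hg hpG (hn.trans h)).elim
  exfalso
  obtain ⟨r, hr, hd, hk⟩ := CfsgLib.Zsigmondy.exists_primitive_prime_divisor (a := p) (n := n)
    (by omega) (by omega) (fun e => hp2 e.1) (fun e => by omega)
  obtain ⟨hrn, -, g, hgo, hgi, hgc⟩ := hg.ppd_spec (by omega) hr (hn.symm ▸ hd) (hn.symm ▸ hk)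
  have hodd := hr.eq_two_or_odd.resolve_left (by omega)
  have h4 : 4 ∣ n := by
    have := (hg.prime g r (fun e => hr.ne_one (by rw [← hgo, e, orderOf_one])) hr hgc).1
    omega
  have hno : ¬ CfsgLib.LargePpd.Large p n := by
    rintro ⟨s, hs, hsd, hsk, hlarge⟩
    obtain ⟨hsn, hs2, -⟩ := hg.ppd_spec (r := s) (by omega) hs (hn.symm ▸ hsd)
      (fun j hj hjn => hsk j hj (hn ▸ hjn))
    rcases hlarge with h | h
    · omega
    · exact hs2 (h.trans (hn ▸ pow_sub_one_dvd_card hg.trans))
  obtain ⟨h3, hn4⟩ := eq_three_four hp3 (by omega) h4 hno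
  exact not_three_four hg hpG h3 (hn.trans hn4)

end CfsgLib.Blocks.ThreeChars
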