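import Cfsg.Agent.Lib.LocalEven.LargePpd

/-!
# No large primitive prime divisor in dimension divisible by four: only `3 ^ 4`
-/

set_option autoImplicit false

namespace CfsgLib.Blocks.ThreeChars

open CfsgLib.LargePpd

theorem growth_nine {L : ℕ} (hL : 3 ≤ L) : 45 * (L + 1) ^ 2 ≤ 9 ^ L := by
  induction L, hL using Nat.le_induction with
  | base => norm_num
  | succ L hL ih => rw [pow_succ 9 L]; nlinarith

theorem growth_prod {f : ℕ} (hf : 2 ≤ f) : 16 * f ^ 2 < 180 * 54 ^ (f - 2) := by
  induction f, hf using Nat.le_induction with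
  | base => norm_num
  | succ f hf ih =>
    rw [show f + 1 - 2 = f - 2 + 1 by omega, pow_succ 54]
    nlinarith

theorem growth_six {f : ℕ} (hf : 4 ≤ f) : 3 * (6 * f + 1) < 6 ^ f := by
  induction f, hf using Nat.le_induction with
  | base => norm_num
  | succ f hf ih => rw [pow_succ]; omega

theorem growth_two {k : ℕ} (hk : 2 ≤ k) : 4 * 2 ^ k + 1 < 3 ^ 2 ^ k := by
  have h : ∀ j : ℕ, 4 ≤ j → 4 * j + 1 < 3 ^ j := by
    intro j hj
    induction j, hj using Nat.le_induction with
    | base => norm_num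
    | succ j hj ih => rw [pow_succ]; omega
  exact h _ (by calc 4 = 2 ^ 2 := rfl
                  _ ≤ 2 ^ k := Nat.pow_le_pow_right (by norm_num) hk)

theorem large_three_twelve : Large 3 12 :=
  large_of_witness (p := 73) (by norm_num) (by norm_num)
    (by decide +kernel) (Or.inl (by norm_num))

theorem eq_three_four {p n : ℕ} (hp : 3 ≤ p) (hn : 0 < n) (h4 : 4 ∣ n) (hno : ¬ Large p n) :
    p = 3 ∧ n = 4 := by
  have hn2 : 2 < n := by
    have := Nat.le_of_dvd hn h4
    omega
  obtain ⟨r, k, m, hr, hnm, hrm, hm0, hmlt, hb, htwo⟩ := bound (by omega) hn2 hno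
  rcases hr.eq_two_or_odd' with rfl | hodd
  · have hm1 : m = 1 := by
      by_contra h
      obtain ⟨s, hs, hsm⟩ := Nat.exists_prime_and_dvd h
      exact absurd (hmlt s hs hsm) (not_lt.2 hs.two_le)
    subst hm1
    rw [mul_one] at hnm
    have h2 := htwo rfl
    have hk0 : k ≠ 0 := fun h => by subst h; norm_num at hnm; omega
    have h3 : 3 ^ 2 ^ k ≤ p ^ 2 ^ k := Nat.pow_le_pow_left hp _
    by_cases hk1 : k = 1
    · subst hk1
      norm_num at hnm h2
      subst hnm
      refine ⟨?_, rfl⟩
      nlinarith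
    · exfalso
      have hg := growth_two (show 2 ≤ k by omega)
      rw [hnm, pow_succ] at h2
      omega
  · exfalso
    have hr3 : 3 ≤ r := by
      have := hr.two_le
      rcases hodd with ⟨t, rfl⟩
      omega
    have h4m : 4 ∣ m := by
      have hc : Nat.Coprime 4 (r ^ (k + 1)) := by
        refine Nat.Coprime.pow_right _ ?_
        rw [Nat.coprime_comm, hr.coprime_iff_not_dvd]
        intro h
        have h' := hr.dvd_of_dvd_pow (show r ∣ 2 ^ 2 by norm_num; exact h)
        have := Nat.le_of_dvd (by norm_num) h'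
        omega
      exact hc.dvd_of_dvd_mul_left (hnm ▸ h4)
    set f := Nat.totient m with hf
    have hf2 : 2 ≤ f := by
      have h := Nat.totient_dvd_of_dvd h4m
      rw [show Nat.totient 4 = 2 from by decide] at h
      exact Nat.le_of_dvd (Nat.totient_pos.2 hm0) h
    have hm2 : m ≤ 2 * f ^ 2 := (le_two_mul_totient_sq m).1
    have hb3 : 3 ^ r ^ k ≤ p ^ r ^ k := Nat.pow_le_pow_left hp _
    by_cases hsmall : r = 3 ∧ k = 0
    · obtain ⟨rfl, rfl⟩ := hsmall
      -- `m` is a power of two
      obtain ⟨j, rfl⟩ : ∃ j, m = 2 ^ j := ⟨_, Nat.eq_prime_pow_of_unique_prime_dvd hm0.ne'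
        fun {d} hd hdm => by
          have := hmlt d hd hdm
          have := hd.two_le
          omega⟩
      have hj : j ≠ 0 := fun h => by subst h; norm_num at h4m
      have hmf : 2 ^ j = 2 * f := by
        rw [hf, Nat.totient_prime_pow Nat.prime_two (Nat.pos_of_ne_zero hj)]
        conv_lhs => rw [show j = j - 1 + 1 by omega, pow_succ']
        ring
      norm_num at hb hnm
      rw [hnm, hmf] at hb
      by_cases hf3 : f = 2
      · by_cases hp3 : p = 3
        · refine hno ?_
          rw [hnm, hmf, hf3, hp3]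
          exact large_three_twelve
        · rw [hf3] at hb
          have h20 : 20 ≤ p * (p - 1) := by
            have h5 : 5 ≤ p ∨ p = 4 := by omega
            rcases h5 with h5 | h5
            · calc 20 ≤ 5 * 4 := le_rfl
                _ ≤ p * (p - 1) := Nat.mul_le_mul h5 (by omega)
            · subst h5
              norm_num at hb
          have : 20 ^ 2 ≤ (p * (p - 1)) ^ 2 := Nat.pow_le_pow_left h20 2
          omega
      · have hf4 : 4 ≤ f := by
          have : 4 ∣ 2 * f := hmf ▸ h4m
          omega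
        have h6 : 6 ^ f ≤ (p * (p - 1)) ^ f := Nat.pow_le_pow_left (by
          calc 6 = 3 * 2 := rfl
            _ ≤ p * (p - 1) := Nat.mul_le_mul hp (by omega)) _
        have := growth_six hf4
        omega
    · set A := r ^ k with hA
      have hA1 : 1 ≤ A := Nat.one_le_pow _ _ hr.pos
      obtain ⟨L, hL⟩ : ∃ L, A * (r - 1) = L + 1 := ⟨A * (r - 1) - 1, by
        have : 0 < A * (r - 1) := Nat.mul_pos hA1 (by omega)
        omega⟩
      have hL3 : 3 ≤ L := by
        rcases eq_or_ne k 0 with hk | hk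
        · have hA' : A = 1 := by rw [hA, hk, pow_zero]
          rw [hA', one_mul] at hL
          have : r ≠ 3 := fun h => hsmall ⟨h, hk⟩
          rcases hodd with ⟨t, rfl⟩
          omega
        · have : 3 ≤ A := hr3.trans (Nat.le_self_pow hk r)
          have h6 : 3 * 2 ≤ A * (r - 1) := Nat.mul_le_mul this (by omega)
          omega
      -- lower bound
      have hX : 2 * 3 ^ L ≤ (p ^ A) ^ (r - 2) * (p ^ A - 1) := by
        have h1 : 1 ≤ 3 ^ (A - 1) := Nat.one_le_pow _ _ (by norm_num)
        have h2 : 2 * 3 ^ (A - 1) ≤ p ^ A - 1 := by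
          have : 3 ^ A = 3 * 3 ^ (A - 1) := by rw [← pow_succ']; congr 1; omega
          omega
        calc 2 * 3 ^ L = (3 ^ A) ^ (r - 2) * (2 * 3 ^ (A - 1)) := by
              rw [← pow_mul, show L = A * (r - 2) + (A - 1) by
                obtain ⟨t, rfl⟩ : ∃ t, r = t + 2 := ⟨r - 2, by omega⟩
                simp only [Nat.add_sub_cancel, show t + 2 - 1 = t + 1 from rfl, Nat.mul_add,
                  Nat.mul_one] at hL ⊢
                omega, pow_add]
              ring
          _ ≤ _ := Nat.mul_le_mul (Nat.pow_le_pow_left hb3 _) h2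
      have h1 := (Nat.pow_le_pow_left hX f).trans hb
      -- upper bound
      have hrA : r * A ≤ 2 * (L + 1) := by
        rw [← hL]
        calc r * A ≤ (2 * (r - 1)) * A := Nat.mul_le_mul_right _ (by omega)
          _ = _ := by ring
      have h2 : r * (n + 1) ≤ 16 * (L + 1) ^ 2 * f ^ 2 := by
        calc r * (n + 1) ≤ r * (2 * n) := Nat.mul_le_mul_left _ (by omega)
          _ = 2 * (r * (r * A)) * m := by rw [hnm, pow_succ', ← hA]; ring
          _ ≤ 2 * ((r * A) * (r * A)) * (2 * f ^ 2) :=
              Nat.mul_le_mul (Nat.mul_le_mul_left _ (Nat.mul_le_mul_right _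
                (Nat.le_mul_of_pos_right _ hA1))) hm2
          _ ≤ 2 * ((2 * (L + 1)) * (2 * (L + 1))) * (2 * f ^ 2) := by gcongr
          _ = _ := by ring
      obtain ⟨g, hgf⟩ : ∃ g, f = g + 2 := ⟨f - 2, by omega⟩
      rw [hgf] at hf2 h1 h2
      have h9 := growth_nine hL3
      have hg := growth_prod hf2
      rw [Nat.add_sub_cancel] at hg
      have h27 : 27 ≤ 3 ^ L := (Nat.pow_le_pow_right (by norm_num) hL3 : 3 ^ 3 ≤ 3 ^ L)
      have h54 : 54 ^ g ≤ (2 * 3 ^ L) ^ g := Nat.pow_le_pow_left (by omega) _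
      have h3 : 180 * 54 ^ g * (L + 1) ^ 2 ≤ (2 * 3 ^ L) ^ (g + 2) := by
        calc 180 * 54 ^ g * (L + 1) ^ 2 = 54 ^ g * (4 * (45 * (L + 1) ^ 2)) := by ring
          _ ≤ (2 * 3 ^ L) ^ g * (4 * 9 ^ L) := Nat.mul_le_mul h54 (Nat.mul_le_mul_left _ h9)
          _ = (2 * 3 ^ L) ^ (g + 2) := by
              rw [pow_add, show (9 : ℕ) ^ L = (3 ^ L) ^ 2 by
                rw [← pow_mul, mul_comm, pow_mul]; norm_num]
              ring
      have h4' : 16 * (g + 2) ^ 2 * (L + 1) ^ 2 < 180 * 54 ^ g * (L + 1) ^ 2 :=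
        Nat.mul_lt_mul_of_pos_right hg (by positivity)
      nlinarith

end CfsgLib.Blocks.ThreeChars
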