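import Cfsg.Agent.Lib.Blocks.ThreeChars.Stable
import Cfsg.Agent.Lib.Blocks.CoveringDefect
import Cfsg.Agent.S4436

/-!
# Three characters and a normal abelian defect group

The Fong-Reynolds reduction to the stable case.
-/

set_option autoImplicit false

open scoped Classical

namespace CfsgLib.Blocks.ThreeChars

open Cfsg CfsgLib.Blocks CfsgLib.Char

universe u

variable {p : ℕ} [Fact p.Prime] {M : Ideal AlgInt} [M.IsPrime]

/-- A normal defect group is the only defect group. -/
theorem eq_of_isDefectGroup {G : Type*} [Group G] [Fintype G] (hM : IsPModular p M)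
    {B : Set (IrrCharacter G)} (hB : IsPBlock M B) {D E : Subgroup G} [hn : D.Normal]
    (hD : IsDefectGroup p M B D) (hE : IsDefectGroup p M B E) : E = D := by
  obtain ⟨x, hx⟩ := IsDefectGroup.exists_conj hM hB hD hE
  rw [← hx]
  refine Subgroup.eq_of_le_of_card_ge ?_ (card_map_conj x D).ge
  rintro _ ⟨w, hw, rfl⟩
  exact hn.conj_mem w hw x

theorem card_le_three_of_normal_aux (hM : IsPModular p M) :
    ∀ (n : ℕ) (G : Type u) [Group G] [Fintype G], Nat.card G = n →
    ∀ {B : Set (IrrCharacter G)}, IsPBlock M B → ∀ {D : Subgroup G} [D.Normal],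
    IsDefectGroup p M B D → (∀ a ∈ D, ∀ b ∈ D, a * b = b * a) → Nat.card B ≤ 3 →
    Nat.card D ≤ 3 := by
  intro n
  induction n using Nat.strong_induction_on with
  | _ n ih =>
    intro G _ _ hn B hB D _ hD hab hk
    let C := Subgroup.centralizer (D : Set G)
    have := Fintype.ofFinite C
    have hCn : C.Normal := inferInstanceAs (Subgroup.centralizer (D : Set G)).Normal
    obtain ⟨χ, hχ⟩ := IsPBlock.nonempty hB
    obtain ⟨θ, hθ⟩ := exists_constituent C χ
    have hb : IsPBlock M (blockOf M (θ : C → ℂ)) := isPBlock_blockOf θ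
    set T := blockStab C M hb with hTdef
    have hCT : C ≤ T := le_blockStab C hb
    have hT : ∀ g : G, g ∈ T ↔ ∀ φ ∈ blockOf M (θ : C → ℂ),
        conjIrr C g φ ∈ blockOf M (θ : C → ℂ) := by
      intro g
      rw [hTdef, mem_blockStab]
      refine ⟨fun h φ hφ => h ▸ Set.mem_image_of_mem _ hφ, fun h => ?_⟩
      exact IsPBlock.eq_of_mem (isPBlock_image_conjIrr C hb g) hb
        (Set.mem_image_of_mem _ (mem_blockOf_self θ)) (h θ (mem_blockOf_self θ))
    by_cases hTop : T = ⊤
    · exact card_le_three_of_stable hM hB hD hab hk hχ hθ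
        fun g φ hφ => (hT g).1 (hTop ▸ Subgroup.mem_top g) φ hφ
    have hlt : Nat.card T < Nat.card G :=
      lt_of_le_of_ne (Nat.le_of_dvd Nat.card_pos T.card_subgroup_dvd_card)
        fun he => hTop (Subgroup.eq_top_of_card_eq T he)
    have := Fintype.ofFinite T
    obtain ⟨ψ, hψ, hind, hBi⟩ :=
      exists_liesOver_of_mem C hCT hb hT hB hχ (mem_blockOf_self θ) hθ hχ
    have hB' := isPBlock_blockOf (M := M) ψ
    obtain ⟨D', hDd⟩ := exists_isDefectGroup (p := p) hB'
    have hTs : ∀ g : G, g ∈ T ↔ ∀ φ ∈ blockOf M (θ : C → ℂ), ∀ φ' : IrrCharacter C,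
        (∀ k : C, (φ' : C → ℂ) k = (φ : C → ℂ) ⟨g * k * g⁻¹, hCn.conj_mem k k.2 g⟩) →
          φ' ∈ blockOf M (θ : C → ℂ) :=
      fun g => (hT g).trans ⟨fun h φ hφ φ' he => by
          rw [show φ' = conjIrr C g φ from Subtype.ext (funext fun k => by
            rw [he k, conjIrr_apply])]
          exact h φ hφ,
        fun h φ hφ => h φ hφ _ fun k => conjIrr_apply C g φ k⟩
    obtain ⟨hmapD, himg⟩ := Cfsg.Agent.S4436.result p M hM C _ hb T hTs hCT _ hB'
      ⟨ψ, mem_blockOf_self ψ, hψ⟩ B hBi
    have hmap : D'.map T.subtype = D := eq_of_isDefectGroup hM hB hD (hmapD D' hDd)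
    have hD' : D' = D.subgroupOf T := by
      rw [← hmap, Subgroup.subgroupOf, Subgroup.comap_map_eq_self_of_injective T.subtype_injective]
    have hk' : Nat.card (blockOf M (ψ : T → ℂ)) ≤ Nat.card B := by
      refine Nat.card_le_card_of_injective
        (fun φ => (⟨(himg φ.1 φ.2).choose, (himg φ.1 φ.2).choose_spec.1⟩ : B)) ?_
      intro φ φ' e
      have e1 := congrArg Subtype.val e
      simp only at e1
      have hl' := fun (φ : blockOf M (ψ : T → ℂ)) =>
        liesOver_of_mem C hCT hb hT hB' (mem_blockOf_self ψ) hψ φ.2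
      obtain ⟨χ₀, hχ₀, huniq, -⟩ := indFun_of_liesOver C hCT hb hT (hl' φ)
      refine Subtype.ext (huniq φ' (hl' φ') ?_).symm
      rw [← hχ₀, ← (himg φ'.1 φ'.2).choose_spec.2.1, ← (himg φ.1 φ.2).choose_spec.2.1, ← e1,
        classInner_irr_self]
      exact one_ne_zero
    have : D'.Normal := hD' ▸ (inferInstance : (D.subgroupOf T).Normal)
    have h := ih (Nat.card T) (hn ▸ hlt) T rfl hB' (D := D') hDd
      (fun a ha b hb' => Subtype.ext (hab a (hmap ▸ Subgroup.mem_map_of_mem _ ha) b
        (hmap ▸ Subgroup.mem_map_of_mem _ hb')))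
      (hk'.trans hk)
    rwa [← hmap, Subgroup.card_map_of_injective T.subtype_injective]

/-- A block with a normal abelian defect group and at most three characters. -/
theorem card_le_three_of_normal {G : Type u} [Group G] [Fintype G] (hM : IsPModular p M)
    {B : Set (IrrCharacter G)} (hB : IsPBlock M B) {D : Subgroup G} [D.Normal]
    (hD : IsDefectGroup p M B D) (hab : ∀ a ∈ D, ∀ b ∈ D, a * b = b * a) (hk : Nat.card B ≤ 3) :
    Nat.card D ≤ 3 :=
  card_le_three_of_normal_aux hM _ G rfl hB hD hab hk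

end CfsgLib.Blocks.ThreeChars
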