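import Cfsg.Agent.Lib.Blocks.ThreeChars.Action
import Cfsg.Agent.Lib.Blocks.ThreeChars.Count
import Cfsg.Agent.Lib.Blocks.ThreeChars.Abelian
import Cfsg.Agent.Lib.Blocks.CentralizerProduct
import Cfsg.Agent.S4437
import Cfsg.Agent.S4648
import Cfsg.Agent.S4733

/-!
# Three characters, abelian normal defect group, stable block of the centralizer
-/

set_option autoImplicit false

namespace CfsgLib.Blocks.ThreeChars

open Cfsg CfsgLib.Blocks CfsgLib.Char

variable {G : Type*} [Group G] [Fintype G] {p : ℕ} [Fact p.Prime] {M : Ideal AlgInt} [M.IsPrime]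
  (hM : IsPModular p M) {B : Set (IrrCharacter G)} (hB : IsPBlock M B) {D : Subgroup G} [D.Normal]
  (hD : IsDefectGroup p M B D)
include hM hB hD

omit [D.Normal] in
/-- A bound on the characters over a character of `C` trivial on `D`. -/
theorem card_over_le [Fintype (G ⧸ D)] [D.Normal] {C : Subgroup G} [Fintype C]
    {θ : IrrCharacter C} (hsub : ∀ χ ∈ Over C θ, χ ∈ B)
    (htriv : ∀ χ ∈ Over C θ, ∀ d ∈ D, (χ : G → ℂ) d = (χ : G → ℂ) 1) :
    Nat.card (Over C θ) ≤ blockRank p B := by
  classical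
  have := Fintype.ofFinite (Over C θ)
  let W := Submodule.span ℂ ((fun χ : IrrCharacter G => pRegularPart p (χ : G → ℂ)) '' B)
  let v : Over C θ → W := fun χ =>
    ⟨pRegularPart p ((χ : IrrCharacter G) : G → ℂ),
      Submodule.subset_span ⟨χ.1, hsub χ.1 χ.2, rfl⟩⟩
  have hv : LinearIndependent ℂ v := by
    rw [Fintype.linearIndependent_iff]
    intro c hc
    have hc' := congrArg Subtype.val hc
    simp only [Submodule.coe_sum, Submodule.coe_smul, ZeroMemClass.coe_zero, v] at hc'
    have hdefect : ∀ E : Subgroup G, IsDefectGroup p M B E → E = D := by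
      intro E hE
      obtain ⟨x, hx⟩ := IsDefectGroup.exists_conj hM hB hD hE
      rw [← hx]
      refine Subgroup.eq_of_le_of_card_ge ?_ (card_map_conj x D).ge
      rintro _ ⟨w, hw, rfl⟩
      exact Subgroup.Normal.conj_mem ‹D.Normal› w hw x
    have hall : ∀ g : G, ∑ χ : Over C θ, c χ * ((χ : IrrCharacter G) : G → ℂ) g = 0 := by
      intro g
      obtain ⟨z, hz⟩ := exists_pPart hM.1 g
      by_cases hzD : z ∈ D
      · obtain ⟨y, rfl, -, -, hy⟩ := hz
        have h := congrFun hc' y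
        simp only [Finset.sum_apply, Pi.smul_apply, smul_eq_mul, Pi.zero_apply, pRegularPart,
          if_pos (show IsPRegular p y from hy)] at h
        rw [← h]
        refine Finset.sum_congr rfl fun χ _ => ?_
        obtain ⟨η, hη⟩ := exists_inflate_eq D χ.1 (htriv χ.1 χ.2)
        rw [← hη, inflate_apply, inflate_apply, QuotientGroup.mk_mul,
          (QuotientGroup.eq_one_iff z).2 hzD, one_mul]
      · refine Finset.sum_eq_zero fun χ _ => ?_
        rw [apply_eq_zero_of_pPart_notMem hM hB (hsub χ.1 χ.2) hz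
          (fun E hE => (hdefect E hE).symm ▸ hzD), mul_zero]
    intro χ₀
    have h : classInner (fun g => ∑ χ : Over C θ, c χ * ((χ : IrrCharacter G) : G → ℂ) g)
        ((χ₀ : IrrCharacter G) : G → ℂ) = c χ₀ := by
      rw [show (fun g => ∑ χ : Over C θ, c χ * ((χ : IrrCharacter G) : G → ℂ) g) =
          ∑ χ : Over C θ, c χ • ((χ : IrrCharacter G) : G → ℂ) by funext g; simp,
        classInner_sum_left, Finset.sum_eq_single χ₀ (fun χ _ hne => ?_) (by simp)]
      · rw [classInner_smul_left, classInner_irr_self, mul_one]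
      · rw [classInner_smul_left, classInner_irr_of_ne fun e => hne (Subtype.ext e), mul_zero]
    rw [funext hall] at h
    rw [← h]
    simp [classInner]
  rw [Nat.card_eq_fintype_card]
  exact hv.fintype_card_le_finrank

/-- The stable case. -/
theorem card_le_three_of_stable (hab : ∀ a ∈ D, ∀ b ∈ D, a * b = b * a) (hk : Nat.card B ≤ 3)
    [Fintype (Subgroup.centralizer (D : Set G))] {χ₀ : IrrCharacter G} (hχ₀ : χ₀ ∈ B)
    {θ₀ : IrrCharacter (Subgroup.centralizer (D : Set G))}
    (hθ₀ : classInner (fun n : Subgroup.centralizer (D : Set G) => (χ₀ : G → ℂ) n)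
      (θ₀ : Subgroup.centralizer (D : Set G) → ℂ) ≠ 0)
    (hstab : ∀ g : G, ∀ φ ∈ blockOf M (θ₀ : Subgroup.centralizer (D : Set G) → ℂ),
      conjIrr (Subgroup.centralizer (D : Set G)) g φ ∈
        blockOf M (θ₀ : Subgroup.centralizer (D : Set G) → ℂ)) :
    Nat.card D ≤ 3 := by
  classical
  by_cases hD1 : D = ⊥
  · rw [hD1, Subgroup.card_bot]; norm_num
  have hp : p.Prime := Fact.out
  have := Fintype.ofFinite (G ⧸ D)
  let C := Subgroup.centralizer (D : Set G)
  have hCn : C.Normal := inferInstanceAs (Subgroup.centralizer (D : Set G)).Normal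
  let c := blockOf M (θ₀ : Subgroup.centralizer (D : Set G) → ℂ)
  have hc : IsPBlock M c := isPBlock_blockOf θ₀
  have hDC : D ≤ C := fun x hx => Subgroup.mem_centralizer_iff.2 fun y hy => hab y hy x hx
  have hDp := IsDefectGroup.isPGroup hD
  have hcD := isDefectGroup_covered hM hB hD hab hχ₀ hθ₀
  have hind₀ := isInducedBlock_of_constituent hM hDp hθ₀
  rw [← IsPBlock.eq_blockOf hB hχ₀] at hind₀
  -- the canonical character
  have hG' : D.subgroupOf C ⊔ Subgroup.centralizer ((D.subgroupOf C : Subgroup C) : Set C) = ⊤ :=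
    eq_top_iff.2 fun x _ => Subgroup.mem_sup_right (Subgroup.mem_centralizer_iff.2 fun y hy =>
      Subtype.ext (Subgroup.mem_centralizer_iff.1 x.2 (y : G) hy))
  have hDp' : IsPGroup p (D.subgroupOf C) := hDp.of_equiv (Subgroup.subgroupOfEquivOfLe hDC).symm
  obtain ⟨θ, hθ, hθD, -⟩ := exists_canonical hG' hDp' hM hc hcD
  have hinv : ∀ g : G, CfsgLib.Clifford.conjFn hCn (θ : C → ℂ) g = (θ : C → ℂ) := by
    intro g
    rw [← conjIrr_eq_conjFn]
    refine congrArg Subtype.val (eq_of_trivial_on hG' hDp' hM hc hcD (hstab g θ hθ) hθ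
      (fun u hu => ?_) hθD)
    rw [conjIrr_apply, conjIrr_apply]
    refine (hθD ⟨g * u * g⁻¹, _⟩ ?_).trans (congrArg _ (Subtype.ext (by simp)))
    exact Subgroup.Normal.conj_mem ‹D.Normal› _ hu g
  -- the inertial quotient is a `p'`-group
  have hpE : ¬ p ∣ C.index := by
    rw [← Subgroup.relIndex_top_right]
    refine (Cfsg.Agent.S4437.result p M hM D hDp C (sup_eq_right.2 hDC).symm c hc hcD B hind₀ ⊤
      fun g => ⟨fun _ => ⟨Subgroup.normalizer_eq_top_iff.2 ‹D.Normal› ▸ Subgroup.mem_top g,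
        fun φ hφ φ' hφ' => ?_⟩, fun _ => Subgroup.mem_top g⟩).1 hD
    have e : φ' = conjIrr C g⁻¹ φ := Subtype.ext (funext fun n => by
      rw [conjIrr_apply]
      exact hφ' ⟨g⁻¹ * n * g⁻¹⁻¹, hCn.conj_mem n n.2 g⁻¹⟩ n (by simp [mul_assoc]))
    rw [e]
    exact hstab g⁻¹ φ hφ
  -- the characters over `θ`
  have hsub : ∀ χ ∈ Over C θ, χ ∈ B := fun χ hχ => by
    have h := isInducedBlock_of_constituent hM hDp (θ := θ) hχ
    rw [← IsPBlock.eq_blockOf hc hθ] at h
    rw [IsInducedBlock.eq hind₀ h]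
    exact mem_blockOf_self χ
  have htriv : ∀ χ ∈ Over C θ, ∀ d ∈ D, (χ : G → ℂ) d = (χ : G → ℂ) 1 := by
    intro χ hχ d hd
    have h := restrict_eq_smul hinv hχ
    have h1 := congrFun h ⟨d, hDC hd⟩
    have h2 := congrFun h 1
    simp only [Pi.smul_apply, smul_eq_mul, OneMemClass.coe_one] at h1 h2
    rw [h1, hθD ⟨d, hDC hd⟩ hd, ← h2]
  -- the rank
  obtain ⟨hlk, -, hl0⟩ := Cfsg.Agent.S4733.result p M hM B hB
  have hcardD := IsDefectGroup.card_eq hM hB hD
  have hl1 : 1 ≤ blockRank p B := DeficitOne.one_le_blockRank hχ₀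
  have hlne : blockRank p B ≠ Nat.card B := fun e =>
    hD1 (Subgroup.eq_bot_of_card_eq D (by rw [hcardD, hl0.2 e.symm, pow_zero]))
  by_cases hl : blockRank p B = 1
  · obtain ⟨-, h, -⟩ := Cfsg.Agent.S4648.result p M hM B hB D hD hD1 hl (by omega)
    omega
  have h2 : Nat.card (Over C θ) ≤ 2 := (card_over_le hM hB hD hsub htriv).trans (by omega)
  -- the defect group
  by_cases hp2 : p = 2
  · subst hp2
    by_contra hbig
    have hd : 2 ≤ blockDefect 2 B := by
      by_contra h
      exact hbig (hcardD.le.trans ((Nat.pow_le_pow_right (by norm_num)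
        (show blockDefect 2 B ≤ 1 by omega)).trans (by norm_num)))
    have := Nat.le_of_dvd (by omega) (four_dvd_card hM hB rfl hd
      fun χ hχ => blockHeight_eq_zero hM hB hD hab hχ)
    omega
  have hconj : ∀ u ∈ D, ∀ w ∈ D, u ≠ 1 → w ≠ 1 → IsConj u w := fun u hu w hw hu1 hw1 =>
    DeficitOne.isConj_of_card_le hM hB hD (by omega) hu hw hu1 hw1
  have hexp : ∀ a ∈ D, a ^ p = 1 := fun a ha => DeficitOne.pow_eq_one_of_isConj hDp hconj ha
  let ψ₀ : G →* MulAut D := MulAut.conjNormal
  have hker : ∀ g : G, ψ₀ g = 1 ↔ g ∈ C := by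
    intro g
    rw [Subgroup.mem_centralizer_iff]
    constructor
    · intro h d hd
      have h1 : g * d * g⁻¹ = d :=
        (MulAut.conjNormal_apply g (⟨d, hd⟩ : D)).symm.trans
          (congrArg Subtype.val (DFunLike.congr_fun h (⟨d, hd⟩ : D)))
      exact (mul_inv_eq_iff_eq_mul.1 h1).symm
    · intro h
      refine MulEquiv.ext fun x => Subtype.ext ?_
      refine (MulAut.conjNormal_apply g x).trans ?_
      rw [← h _ x.2, mul_inv_cancel_right]
      rfl
  let ψ : G ⧸ C →* MulAut D :=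
    QuotientGroup.lift C ψ₀ fun g hg => MonoidHom.mem_ker.2 ((hker g).2 hg)
  let _ : CommGroup D :=
    { (inferInstance : Group D) with mul_comm := fun a b => Subtype.ext (hab a a.2 b b.2) }
  have : Nontrivial D := (Subgroup.nontrivial_iff_ne_bot D).2 hD1
  refine card_le_three_of_action (p := p) ψ ((injective_iff_map_eq_one ψ).2 fun x hx => ?_)
    (fun a b ha hb => ?_) (fun a => Subtype.ext (hexp a a.2)) (isConj_of_good hinv h2)
    (prime_centralizer hinv h2) hp2 hpE
  · obtain ⟨g, rfl⟩ := QuotientGroup.mk_surjective x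
    exact (QuotientGroup.eq_one_iff g).2 ((hker g).1 hx)
  · obtain ⟨g, hg⟩ := isConj_iff.1 (hconj _ a.2 _ b.2 (fun e => ha (Subtype.ext e))
      fun e => hb (Subtype.ext e))
    exact ⟨(g : G ⧸ C), Subtype.ext ((MulAut.conjNormal_apply g a).trans hg)⟩

end CfsgLib.Blocks.ThreeChars
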